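import Groth.Agent.MultSubFTLib.SameRel
import Groth.Agent.BootLib.SepQuotient
import Groth.Agent.DescHomLib.Epi

/-!
The quotient of a finite level by the relation of having the same subgroup.
-/

set_option autoImplicit false
set_option backward.isDefEq.respectTransparency false
set_option linter.style.haveILetI false
set_option synthInstance.maxHeartbeats 400000

noncomputable section

universe u

open CategoryTheory CategoryTheory.Limits MonoidalCategory CartesianMonoidalCategory AlgebraicGeometry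
open scoped MonObj

attribute [-instance] CategoryTheory.Hom.commGroup

namespace MultSubFTLib

open MultSubLib (pc uu MM)

theorem fpqc_of_open {X Y : Scheme.{u}} (f : X ⟶ Y) [Flat f] [Surjective f] (hf : IsOpenMap f.base) :
    DescLib.Fpqc f :=
  ⟨Groth.Agent.DescHom.singleton_mem_fpqc f (MultSubLib.exists_compact_image f hf f.surjective)⟩

variable {S : Scheme.{u}} {G : Over S} [GrpObj G] [IsAffineHom G.hom] [Smooth G.hom]
  {N : Type} [AddCommGroup N] [AddGroup.FG N] (p : Piece G N)

/-- The open where a level is unramified. -/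
def Ul (l : ℕ) : p.P.left.Opens :=
  ⟨RichLib.UnrLocus.locus (gl p l).left, RichLib.UnrLocus.isOpen_locus _⟩

/-- The points where a level is unramified. -/
def PU (l : ℕ) : Over S := Over.mk ((Ul p l).ι ≫ p.P.hom)

/-- The inclusion. -/
def jU (l : ℕ) : PU p l ⟶ p.P := Over.homMk (Ul p l).ι rfl

theorem Ul_mono {l m : ℕ} (h : l ≤ m) : Ul p l ≤ Ul p m := by
  rintro x ⟨V, hx, hV⟩
  obtain ⟨r, hr⟩ := exists_gl_factor p h
  refine ⟨V, hx, ?_⟩
  have e : V.ι ≫ (gl p l).left = (V.ι ≫ (gl p m).left) ≫ r.left := by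
    rw [← hr, Category.assoc]
    rfl
  rw [e] at hV
  exact FormallyUnramified.of_comp _ r.left

theorem exists_mem_Ul (x : p.P.left) : ∃ l, x ∈ Ul p l := exists_mem_locus p x

theorem etale_gl (l : ℕ) : Etale ((Ul p l).ι ≫ (gl p l).left) := by
  haveI : Smooth (gl p l).left := smooth_restr p (pc G (lev N l)) (lpi_surjective N l)
  haveI : FormallyUnramified ((Ul p l).ι ≫ (gl p l).left) := by
    refine (RichLib.UnrLocus.locus_eq_univ_iff _).1 (Set.eq_univ_iff_forall.2 fun x => ?_)
    exact (RichLib.UnrLocus.mem_locus_comp_left_iff (Ul p l).ι (gl p l).left x).2 x.2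
  exact Etale.of_formallyUnramified_of_flat _

theorem etale_gg (l : ℕ) : Etale (jU p l ≫ gg p l).left := by
  haveI := etale_gl p l
  haveI := etale_uu (G := G) (lev N l)
  show Etale ((Ul p l).ι ≫ (gl p l).left ≫ (uu G (lev N l)).left)
  rw [← Category.assoc]
  infer_instance

theorem separated_gg (l : ℕ) : IsSeparated (jU p l ≫ gg p l).left := by
  haveI : IsSeparated (gl p l).left := separated_restr p (pc G (lev N l)) (lpi_surjective N l)
  haveI : IsSeparated ((uu G (lev N l)).left ≫ (MM G).hom) := by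
    rw [Over.w (uu G (lev N l))]
    exact separated_piece _
  haveI : IsSeparated (uu G (lev N l)).left := IsSeparated.of_comp _ (MM G).hom
  show IsSeparated ((Ul p l).ι ≫ (gl p l).left ≫ (uu G (lev N l)).left)
  infer_instance

theorem exists_open_sameP {l : ℕ} {T₀ : Over S} (a b : T₀ ⟶ PU p l)
    (hab : a ≫ jU p l ≫ gg p l = b ≫ jU p l ≫ gg p l) {Z : Over S} (i : Z ⟶ T₀)
    (hi : SameP p ((i ≫ a) ≫ jU p l) ((i ≫ b) ≫ jU p l)) (z : Z.left) :
    ∃ (W : Over S) (e : W ⟶ T₀), IsOpenImmersion e.left ∧ i.left z ∈ Set.range e.left ∧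
      SameP p ((e ≫ a) ≫ jU p l) ((e ≫ b) ≫ jU p l) := by
  obtain ⟨U', j, hj, hz, α, hα⟩ := exists_local_act p hi z
  obtain ⟨u', rfl⟩ := hz
  let yα : T₀ ⟶ p.P := (b ≫ jU p l) ≫ act p α
  let O : T₀.left.Opens := yα.left ⁻¹ᵁ Ul p l
  let T₁ : Over S := Over.mk (O.ι ≫ T₀.hom)
  let o : T₁ ⟶ T₀ := Over.homMk O.ι rfl
  have hr : Set.range (o ≫ yα).left ⊆ Set.range (Ul p l).ι := by
    rw [Scheme.Opens.range_ι]
    rintro _ ⟨t, rfl⟩
    exact t.2
  let y' : T₁ ⟶ PU p l := Over.homMk (IsOpenImmersion.lift (Ul p l).ι (o ≫ yα).left hr) (by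
    show IsOpenImmersion.lift (Ul p l).ι _ hr ≫ (Ul p l).ι ≫ p.P.hom = _
    rw [IsOpenImmersion.lift_fac_assoc]
    exact Over.w (o ≫ yα))
  have hy' : y' ≫ jU p l = o ≫ yα := Over.OverMorphism.ext (IsOpenImmersion.lift_fac _ _ _)
  let g := jU p l ≫ gg p l
  haveI : Etale g.left := etale_gg p l
  have hg : (o ≫ a) ≫ g = y' ≫ g := by
    rw [← Category.assoc y', hy', Category.assoc, hab]
    simp only [yα, Category.assoc, act_gg]
  let Δ := pullback.diagonal g.left
  let pr : T₁.left ⟶ pullback g.left g.left :=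
    pullback.lift (o ≫ a).left y'.left (congrArg CommaMorphism.left hg)
  let W : Over S := Over.mk (pullback.snd Δ pr ≫ T₁.hom)
  let e : W ⟶ T₀ := Over.homMk (pullback.snd Δ pr ≫ O.ι) (Category.assoc _ _ _)
  refine ⟨W, e, ?_, ?_, ?_⟩
  · show IsOpenImmersion (pullback.snd Δ pr ≫ O.ι)
    infer_instance
  · have hj' : (j ≫ i ≫ a) ≫ jU p l = j ≫ i ≫ yα := by simpa only [yα, Category.assoc] using hα
    have hrO : Set.range (j ≫ i).left ⊆ Set.range O.ι := by
      rw [Scheme.Opens.range_ι]
      rintro _ ⟨t, rfl⟩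
      show yα.left ((j ≫ i).left t) ∈ Ul p l
      rw [← Scheme.Hom.comp_apply, ← Over.comp_left, Category.assoc, ← hj']
      exact (((j ≫ i ≫ a).left) t).2
    let k : U'.left ⟶ T₁.left := IsOpenImmersion.lift O.ι (j ≫ i).left hrO
    have hk : k ≫ O.ι = (j ≫ i).left := IsOpenImmersion.lift_fac _ _ _
    have h1 : k ≫ (o ≫ a).left = k ≫ y'.left := by
      rw [← cancel_mono (Ul p l).ι]
      have e1 : (k ≫ y'.left) ≫ (Ul p l).ι = (k ≫ O.ι) ≫ yα.left :=
        (Category.assoc _ _ _).trans ((congrArg (k ≫ ·) (congrArg CommaMorphism.left hy')).trans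
          (Category.assoc _ _ _).symm)
      rw [e1, hk]
      show (k ≫ O.ι ≫ a.left) ≫ (Ul p l).ι = (j ≫ i).left ≫ yα.left
      rw [← Category.assoc k, hk]
      exact congrArg CommaMorphism.left (by simpa only [Category.assoc] using hj')
    have h2 : (k ≫ (o ≫ a).left) ≫ Δ = k ≫ pr := by
      refine pullback.hom_ext ?_ ?_
      · simp only [Δ, pr, Category.assoc, pullback.diagonal_fst, Category.comp_id, pullback.lift_fst]
      · simp only [Δ, pr, Category.assoc, pullback.diagonal_snd, Category.comp_id, pullback.lift_snd, h1]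
    refine ⟨pullback.lift _ _ h2 u', ?_⟩
    show (pullback.lift _ _ h2 ≫ pullback.snd Δ pr ≫ O.ι) u' = (j.left ≫ i.left) u'
    rw [pullback.lift_snd_assoc, hk]
    rfl
  · have h3 : pullback.snd Δ pr ≫ (o ≫ a).left = pullback.snd Δ pr ≫ y'.left := by
      have c := (pullback.condition : pullback.fst Δ pr ≫ Δ = pullback.snd Δ pr ≫ pr)
      have c1 := congrArg (· ≫ pullback.fst g.left g.left) c
      have c2 := congrArg (· ≫ pullback.snd g.left g.left) c
      simp only [Δ, pr, Category.assoc, pullback.diagonal_fst, pullback.diagonal_snd, Category.comp_id,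
        pullback.lift_fst, pullback.lift_snd] at c1 c2
      exact c1.symm.trans c2
    let w : W ⟶ T₁ := Over.homMk (pullback.snd Δ pr) rfl
    have h4 : w ≫ o ≫ a = w ≫ y' := Over.OverMorphism.ext h3
    have h5 : e = w ≫ o := Over.OverMorphism.ext rfl
    have h6 : (e ≫ a) ≫ jU p l = ((e ≫ b) ≫ jU p l) ≫ act p α := by
      rw [h5, Category.assoc w o a, h4, Category.assoc, hy']
      simp only [yα, Category.assoc]
    rw [h6]
    exact sameP_act p α _

theorem exists_level_quot (l : ℕ) :
    ∃ (Q : Over S) (c : PU p l ⟶ Q), Etale c.left ∧ Surjective c.left ∧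
      ∀ (T : Over S) (a b : T ⟶ PU p l), a ≫ c = b ≫ c ↔ SameP p (a ≫ jU p l) (b ≫ jU p l) := by
  haveI := etale_gg p l
  haveI := separated_gg p l
  have hloc : ∀ (T₀ : Over S) (a b : T₀ ⟶ PU p l), a ≫ jU p l ≫ gg p l = b ≫ jU p l ≫ gg p l →
      ∃ E : T₀.left.Opens, IsClosed (E : Set T₀.left) ∧ ∀ (T : Over S) (c : T ⟶ T₀),
        Set.range c.left.base ⊆ E ↔ SameP p ((c ≫ a) ≫ jU p l) ((c ≫ b) ≫ jU p l) := by
    intro T₀ a b hab
    obtain ⟨Z, i, hi, hZ⟩ := exists_closed_sameP p (a ≫ jU p l) (b ≫ jU p l)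
    haveI := hi
    have hii : SameP p ((i ≫ a) ≫ jU p l) ((i ≫ b) ≫ jU p l) := by
      rw [Category.assoc, Category.assoc]
      exact (hZ Z i).1 ⟨𝟙 _, Category.id_comp _⟩
    choose W e he hze hW using exists_open_sameP p a b hab i hii
    have hsub : ∀ z, Set.range (e z).left ⊆ Set.range i.left := fun z => by
      obtain ⟨f, hf⟩ := (hZ _ (e z)).2 (by rw [← Category.assoc, ← Category.assoc]; exact hW z)
      rintro _ ⟨w, rfl⟩
      exact ⟨f.left w, congrArg (fun m => m w) (congrArg CommaMorphism.left hf)⟩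
    have hopen : IsOpen (Set.range i.left) := isOpen_iff_forall_mem_open.2 (by
      rintro _ ⟨z, rfl⟩
      haveI := he z
      exact ⟨_, hsub z, (e z).left.isOpenEmbedding.isOpen_range, hze z⟩)
    refine ⟨⟨_, hopen⟩, i.left.isClosedEmbedding.isClosed_range, fun T c => ⟨fun hc => ?_, fun h => ?_⟩⟩
    · choose z hz using fun t => hc ⟨t, rfl⟩
      let U : T.left → Over S := fun t => Over.mk (pullback.fst c.left (e (z t)).left ≫ T.hom)
      let j : ∀ t, U t ⟶ T := fun t => Over.homMk (pullback.fst c.left (e (z t)).left) rfl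
      let k : ∀ t, U t ⟶ W (z t) := fun t => Over.homMk (pullback.snd c.left (e (z t)).left) (by
        show pullback.snd _ _ ≫ (W (z t)).hom = pullback.fst _ _ ≫ T.hom
        rw [← Over.w (e (z t)), ← pullback.condition_assoc, Over.w c])
      refine sameP_of_cover p j (fun t => by haveI := he (z t); exact inferInstanceAs (IsOpenImmersion (pullback.fst c.left (e (z t)).left)))
        (fun t => ⟨t, ?_⟩) fun t => ?_
      · obtain ⟨w, hw⟩ := hze (z t)
        obtain ⟨v, hv, -⟩ := Scheme.Pullback.exists_preimage_pullback (f := c.left) (g := (e (z t)).left) t w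
          ((hz t).symm.trans hw.symm)
        exact ⟨v, hv⟩
      · have hck : j t ≫ c = k t ≫ e (z t) := Over.OverMorphism.ext pullback.condition
        have h1 := (hW (z t)).comp (k t)
        simp only [Category.assoc] at h1 ⊢
        rwa [reassoc_of% hck, reassoc_of% hck]
    · obtain ⟨f, hf⟩ := (hZ T c).2 (by rw [← Category.assoc, ← Category.assoc]; exact h)
      rintro _ ⟨t, rfl⟩
      exact ⟨f.left t, congrArg (fun m => m t) (congrArg CommaMorphism.left hf)⟩
  obtain ⟨Q, c, g1, -, hce, hcs, -, -, hrel⟩ := Groth.Agent.Boot.exists_sep_quotient (jU p l ≫ gg p l)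
    (fun T a b => SameP p (a ≫ jU p l) (b ≫ jU p l)) (fun T => equivalence_sameP p (jU p l))
    (fun T a b h => by rw [← Category.assoc, ← Category.assoc]; exact gg_eq_of_sameP p h l) hloc
  exact ⟨Q, c, hce, hcs, hrel⟩

end MultSubFTLib
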