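import Groth.Agent.MultSubFTLib.LevelQuot

/-!
The quotient of a piece by the relation of having the same subgroup.
-/

set_option autoImplicit false
set_option backward.isDefEq.respectTransparency false
set_option linter.style.haveILetI false
set_option synthInstance.maxHeartbeats 400000

noncomputable section

universe u

open CategoryTheory CategoryTheory.Limits MonoidalCategory CartesianMonoidalCategory AlgebraicGeometry
open scoped MonObj

attribute [-instance] CategoryTheory.Hom.commGroup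

namespace MultSubFTLib

variable {S : Scheme.{u}} {G : Over S} [GrpObj G] [IsAffineHom G.hom] [Smooth G.hom]
  {N : Type} [AddCommGroup N] [AddGroup.FG N] (p : Piece G N)

/-- The quotient of a level, with the map to it. -/
structure LQ (l : ℕ) where
  /-- the quotient -/
  Q : Over S
  /-- the map -/
  c : PU p l ⟶ Q
  etale : Etale c.left
  surj : Surjective c.left
  rel : ∀ (T : Over S) (a b : T ⟶ PU p l), a ≫ c = b ≫ c ↔ SameP p (a ≫ jU p l) (b ≫ jU p l)

theorem nonempty_LQ (l : ℕ) : Nonempty (LQ p l) := by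
  obtain ⟨Q, c, h1, h2, h3⟩ := exists_level_quot p l
  exact ⟨⟨Q, c, h1, h2, h3⟩⟩

/-- The chosen quotient of a level. -/
def lq (l : ℕ) : LQ p l := Classical.choice (nonempty_LQ p l)

/-- The quotient of a level. -/
def Ql (l : ℕ) : Over S := (lq p l).Q

/-- The map to the quotient of a level. -/
def cl (l : ℕ) : PU p l ⟶ Ql p l := (lq p l).c

theorem etale_cl (l : ℕ) : Etale (cl p l).left := (lq p l).etale

theorem surjective_cl (l : ℕ) : Surjective (cl p l).left := (lq p l).surj

theorem cl_eq_iff (l : ℕ) {T : Over S} (a b : T ⟶ PU p l) :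
    a ≫ cl p l = b ≫ cl p l ↔ SameP p (a ≫ jU p l) (b ≫ jU p l) :=
  (lq p l).rel T a b

theorem fpqc_cl (l : ℕ) : DescLib.Fpqc (cl p l).left := by
  haveI := etale_cl p l
  haveI := surjective_cl p l
  exact fpqc_of_open _ (cl p l).left.isOpenMap

/-- The inclusion of levels. -/
def incl {l m : ℕ} (h : l ≤ m) : PU p l ⟶ PU p m :=
  Over.homMk (p.P.left.homOfLE (Ul_mono p h)) (by
    show p.P.left.homOfLE (Ul_mono p h) ≫ (Ul p m).ι ≫ p.P.hom = (Ul p l).ι ≫ p.P.hom
    rw [Scheme.homOfLE_ι_assoc])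

theorem incl_jU {l m : ℕ} (h : l ≤ m) : incl p h ≫ jU p m = jU p l :=
  Over.OverMorphism.ext (Scheme.homOfLE_ι _ (Ul_mono p h))

theorem exists_jQ {l m : ℕ} (h : l ≤ m) : ∃ j : Ql p l ⟶ Ql p m, cl p l ≫ j = incl p h ≫ cl p m := by
  haveI := fpqc_cl p l
  exact (RepDescLib.hom_descend (cl p l) (incl p h ≫ cl p m) fun T a b e => by
    rw [← Category.assoc, ← Category.assoc, cl_eq_iff, Category.assoc, Category.assoc, incl_jU]
    exact (cl_eq_iff p l a b).1 e).exists

/-- The transition map of the quotients, with its property. -/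
def jS {l m : ℕ} (h : l ≤ m) : {j : Ql p l ⟶ Ql p m // cl p l ≫ j = incl p h ≫ cl p m} :=
  Classical.indefiniteDescription _ (exists_jQ p h)

/-- The transition map of the quotients. -/
def jQ {l m : ℕ} (h : l ≤ m) : Ql p l ⟶ Ql p m := (jS p h).1

theorem cl_jQ {l m : ℕ} (h : l ≤ m) : cl p l ≫ jQ p h = incl p h ≫ cl p m := (jS p h).2

theorem epi_cl (l : ℕ) : Epi (cl p l).left := by
  haveI := etale_cl p l
  haveI := surjective_cl p l
  exact Flat.epi_of_flat_of_surjective _

theorem jQ_refl (l : ℕ) : jQ p (le_refl l) = 𝟙 _ := by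
  haveI := epi_cl p l
  have h := congrArg CommaMorphism.left (cl_jQ p (le_refl l))
  refine Over.OverMorphism.ext ((cancel_epi (cl p l).left).1 (h.trans ?_))
  show (p.P.left.homOfLE (Ul_mono p (le_refl l))) ≫ (cl p l).left = (cl p l).left ≫ 𝟙 _
  rw [Scheme.homOfLE_rfl, Category.id_comp, Category.comp_id]

theorem jQ_trans {l m n : ℕ} (h : l ≤ m) (h' : m ≤ n) : jQ p h ≫ jQ p h' = jQ p (h.trans h') := by
  haveI := epi_cl p l
  refine Over.OverMorphism.ext ((cancel_epi (cl p l).left).1 ?_)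
  have e : cl p l ≫ jQ p h ≫ jQ p h' = cl p l ≫ jQ p (h.trans h') := by
    rw [← Category.assoc, cl_jQ, Category.assoc, cl_jQ, cl_jQ, ← Category.assoc]
    congr 1
    exact Over.OverMorphism.ext (Scheme.homOfLE_homOfLE _ (Ul_mono p h) (Ul_mono p h'))
  exact congrArg CommaMorphism.left e

theorem isOpenImmersion_jQ {l m : ℕ} (h : l ≤ m) : IsOpenImmersion (jQ p h).left := by
  haveI := etale_cl p l
  haveI := etale_cl p m
  haveI := surjective_cl p l
  haveI : Etale ((cl p l).left ≫ (jQ p h).left) := by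
    rw [← Over.comp_left, cl_jQ]
    show Etale (p.P.left.homOfLE (Ul_mono p h) ≫ (cl p m).left)
    infer_instance
  haveI : Etale (jQ p h).left := FlatLib.etale_of_fppf_comp (cl p l).left (jQ p h).left
  haveI : Mono (jQ p h).left := by
    refine ⟨fun {Z} a₀ b₀ e => ?_⟩
    let T : Over S := Over.mk (a₀ ≫ (Ql p l).hom)
    let a : T ⟶ Ql p l := Over.homMk a₀ rfl
    let b : T ⟶ Ql p l := Over.homMk b₀ (by
      show b₀ ≫ (Ql p l).hom = a₀ ≫ (Ql p l).hom
      rw [← Over.w (jQ p h), ← Category.assoc, ← e, Category.assoc])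
    suffices hab : a = b from congrArg CommaMorphism.left hab
    have e' : a ≫ jQ p h = b ≫ jQ p h := Over.OverMorphism.ext e
    let T₁ : Over S := Over.mk (pullback.fst a.left (cl p l).left ≫ T.hom)
    let r₁ : T₁ ⟶ T := Over.homMk (pullback.fst a.left (cl p l).left) rfl
    let a₁ : T₁ ⟶ PU p l := Over.homMk (pullback.snd a.left (cl p l).left) (by
      show pullback.snd _ _ ≫ (PU p l).hom = pullback.fst _ _ ≫ T.hom
      rw [← Over.w (cl p l), ← pullback.condition_assoc, Over.w a])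
    let T₂ : Over S := Over.mk (pullback.fst (r₁ ≫ b).left (cl p l).left ≫ T₁.hom)
    let r₂ : T₂ ⟶ T₁ := Over.homMk (pullback.fst (r₁ ≫ b).left (cl p l).left) rfl
    let b₂ : T₂ ⟶ PU p l := Over.homMk (pullback.snd (r₁ ≫ b).left (cl p l).left) (by
      show pullback.snd _ _ ≫ (PU p l).hom = pullback.fst _ _ ≫ T₁.hom
      rw [← Over.w (cl p l), ← pullback.condition_assoc, Over.w (r₁ ≫ b)])
    have ha : a₁ ≫ cl p l = r₁ ≫ a := Over.OverMorphism.ext pullback.condition.symm
    have hb : b₂ ≫ cl p l = r₂ ≫ r₁ ≫ b := Over.OverMorphism.ext pullback.condition.symm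
    have h1 : ((r₂ ≫ a₁) ≫ incl p h) ≫ cl p m = (b₂ ≫ incl p h) ≫ cl p m := by
      simp only [Category.assoc, ← cl_jQ]
      rw [reassoc_of% ha, reassoc_of% hb, e']
    rw [cl_eq_iff, Category.assoc, incl_jU, Category.assoc b₂, incl_jU, ← cl_eq_iff, Category.assoc, ha, hb] at h1
    haveI : Flat (r₂ ≫ r₁).left := inferInstanceAs (Flat (pullback.fst (r₁ ≫ b).left (cl p l).left ≫ pullback.fst a.left (cl p l).left))
    haveI : Surjective (r₂ ≫ r₁).left := inferInstanceAs (Surjective (pullback.fst (r₁ ≫ b).left (cl p l).left ≫ pullback.fst a.left (cl p l).left))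
    haveI := Flat.epi_of_flat_of_surjective (r₂ ≫ r₁).left
    refine Over.OverMorphism.ext ((cancel_epi (r₂ ≫ r₁).left).1 ?_)
    exact congrArg CommaMorphism.left ((Category.assoc _ _ _).trans (h1.trans (Category.assoc _ _ _).symm))
  exact IsOpenImmersion.of_flat_of_mono _

/-- The quotients of the levels. -/
def FQ : ℕ ⥤ Scheme.{u} where
  obj l := (Ql p l).left
  map f := (jQ p f.le).left
  map_id l := congrArg CommaMorphism.left (jQ_refl p l)
  map_comp f g := (congrArg CommaMorphism.left (jQ_trans p f.le g.le)).symm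

instance {l m : ℕ} (f : l ⟶ m) : IsOpenImmersion ((FQ p).map f) := isOpenImmersion_jQ p f.le

instance : (FQ p ⋙ Scheme.forget).IsLocallyDirected := by
  refine ⟨fun {i j k} fi fj xi xj h => ?_⟩
  have inj : ∀ {a b : ℕ} (f : a ⟶ b), Function.Injective ((FQ p ⋙ Scheme.forget).map f) :=
    fun f => ((FQ p).map f).isOpenEmbedding.injective
  rcases le_total i j with hij | hij
  · refine ⟨i, 𝟙 i, homOfLE hij, xi, by simp, inj fj ?_⟩
    rw [← h, ← ConcreteCategory.comp_apply, ← Functor.map_comp, Subsingleton.elim (homOfLE hij ≫ fj) fi]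
  · refine ⟨j, homOfLE hij, 𝟙 j, xj, inj fi ?_, by simp⟩
    rw [h, ← ConcreteCategory.comp_apply, ← Functor.map_comp, Subsingleton.elim (homOfLE hij ≫ fi) fj]

theorem map_hom {l m : ℕ} (f : l ⟶ m) : (FQ p).map f ≫ (Ql p m).hom = (Ql p l).hom ≫ 𝟙 S :=
  (Over.w (jQ p f.le)).trans (Category.comp_id _).symm

/-- The structure maps of the quotients of the levels. -/
def homCocone : Cocone (FQ p) :=
  Cocone.mk S { app := fun l => (Ql p l).hom, naturality := fun _ _ f => map_hom p f }

/-- The quotient of a piece. -/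
def QQ : Over S := Over.mk (colimit.desc (FQ p) (homCocone p))

/-- The map from the quotient of a level. -/
def jQQ (l : ℕ) : Ql p l ⟶ QQ p := Over.homMk (colimit.ι (FQ p) l) (colimit.ι_desc _ _)

theorem jQ_jQQ {l m : ℕ} (h : l ≤ m) : jQ p h ≫ jQQ p m = jQQ p l :=
  Over.OverMorphism.ext (colimit.w (FQ p) (homOfLE h))

theorem mono_jQQ (l : ℕ) : Mono (jQQ p l) := by
  haveI : IsOpenImmersion (jQQ p l).left := inferInstanceAs (IsOpenImmersion (colimit.ι (FQ p) l))
  exact Over.mono_of_mono_left _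

theorem exists_cQ : ∃ c : p.P ⟶ QQ p, ∀ l, jU p l ≫ c = cl p l ≫ jQQ p l := by
  have hU : TopologicalSpace.IsOpenCover (Ul p) := TopologicalSpace.IsOpenCover.mk
    (eq_top_iff.2 fun x _ => TopologicalSpace.Opens.mem_iSup.2 (exists_mem_Ul p x))
  let 𝒰 : p.P.left.OpenCover := Scheme.Cover.mkOfCovers (P := @IsOpenImmersion) (ULift.{u} ℕ)
    (fun l => (PU p l.down).left) (fun l => (jU p l.down).left) (fun x => by
      obtain ⟨l, hl⟩ := exists_mem_Ul p x
      exact ⟨⟨l⟩, ⟨x, hl⟩, rfl⟩) (fun l => inferInstanceAs (IsOpenImmersion (Ul p l.down).ι))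
  let f : ∀ l : ULift.{u} ℕ, (PU p l.down).left ⟶ (QQ p).left := fun l => (cl p l.down ≫ jQQ p l.down).left
  have hf : ∀ {l m : ℕ} (h : l ≤ m), f ⟨l⟩ = (incl p h).left ≫ f ⟨m⟩ := fun {l m} h => by
    refine congrArg CommaMorphism.left (?_ : cl p l ≫ jQQ p l = incl p h ≫ cl p m ≫ jQQ p m)
    rw [← jQ_jQQ p h, ← Category.assoc, cl_jQ, Category.assoc]
  have agree : ∀ i j : ULift.{u} ℕ, pullback.fst (jU p i.down).left (jU p j.down).left ≫ f i =
      pullback.snd (jU p i.down).left (jU p j.down).left ≫ f j := fun i j => by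
    obtain ⟨i⟩ := i
    obtain ⟨j⟩ := j
    rw [hf (le_max_left i j), hf (le_max_right i j), ← Category.assoc, ← Category.assoc]
    refine congrArg (· ≫ f ⟨max i j⟩) ?_
    rw [← cancel_mono (Ul p (max i j)).ι]
    show (_ ≫ p.P.left.homOfLE (Ul_mono p (le_max_left i j))) ≫ _ = (_ ≫ p.P.left.homOfLE (Ul_mono p (le_max_right i j))) ≫ _
    rw [Category.assoc, Category.assoc, Scheme.homOfLE_ι, Scheme.homOfLE_ι]
    exact pullback.condition
  let c₀ := 𝒰.glueMorphisms f agree
  have hc : ∀ l : ULift.{u} ℕ, (jU p l.down).left ≫ c₀ = f l := fun l => 𝒰.ι_glueMorphisms f agree l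
  refine ⟨Over.homMk c₀ (𝒰.hom_ext _ _ fun l => ?_), fun l => Over.OverMorphism.ext (hc ⟨l⟩)⟩
  show (jU p l.down).left ≫ c₀ ≫ (QQ p).hom = (jU p l.down).left ≫ p.P.hom
  rw [← Category.assoc, hc l]
  exact (Over.w (cl p l.down ≫ jQQ p l.down)).trans (Over.w (jU p l.down)).symm

theorem exists_quot : ∃ (Q : Over S) (c : p.P ⟶ Q), Etale c.left ∧ Surjective c.left ∧
    ∀ (T : Over S) (x y : T ⟶ p.P), x ≫ c = y ≫ c ↔ SameP p x y := by
  obtain ⟨c, hc⟩ := exists_cQ p
  refine ⟨QQ p, c, ?_, ⟨fun q => ?_⟩, fun T x y => ?_⟩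
  · have hU : iSup (fun l : ULift.{u} ℕ => Ul p l.down) = ⊤ := eq_top_iff.2 fun x _ => by
      obtain ⟨l, hl⟩ := exists_mem_Ul p x
      exact TopologicalSpace.Opens.mem_iSup.2 ⟨⟨l⟩, hl⟩
    refine (IsZariskiLocalAtSource.iff_of_iSup_eq_top (P := @Etale) (U := fun l : ULift.{u} ℕ => Ul p l.down) hU).2
      fun l => ?_
    haveI := etale_cl p l.down
    haveI : IsOpenImmersion (jQQ p l.down).left := inferInstanceAs (IsOpenImmersion (colimit.ι (FQ p) l.down))
    show Etale ((jU p l.down).left ≫ c.left)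
    rw [← Over.comp_left, hc]
    show Etale ((cl p l.down).left ≫ (jQQ p l.down).left)
    infer_instance
  · obtain ⟨l, z, rfl⟩ := Scheme.IsLocallyDirected.ι_jointly_surjective (FQ p) q
    obtain ⟨w, rfl⟩ := (surjective_cl p l).surj z
    exact ⟨(jU p l).left w, congrArg (fun m => m w) (congrArg CommaMorphism.left (hc l))⟩
  · choose i hi using fun t => exists_mem_Ul p (x.left t)
    choose j hj using fun t => exists_mem_Ul p (y.left t)
    let n : T.left → ℕ := fun t => max (i t) (j t)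
    let W : T.left → T.left.Opens := fun t => x.left ⁻¹ᵁ Ul p (n t) ⊓ y.left ⁻¹ᵁ Ul p (n t)
    let U : T.left → Over S := fun t => Over.mk ((W t).ι ≫ T.hom)
    let r : ∀ t, U t ⟶ T := fun t => Over.homMk (W t).ι rfl
    have hcov : ∀ t, ∃ s, t ∈ Set.range (r s).left := fun t =>
      ⟨t, ⟨t, Ul_mono p (le_max_left (i t) (j t)) (hi t), Ul_mono p (le_max_right (i t) (j t)) (hj t)⟩, rfl⟩
    have lift_ : ∀ t (z : T ⟶ p.P), (∀ s ∈ W t, z.left s ∈ Ul p (n t)) → ∃ z' : U t ⟶ PU p (n t), z' ≫ jU p _ = r t ≫ z := by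
      intro t z hz
      have hr : Set.range (r t ≫ z).left ⊆ Set.range (Ul p (n t)).ι := by
        rw [Scheme.Opens.range_ι]
        rintro _ ⟨s, rfl⟩
        exact hz _ s.2
      refine ⟨Over.homMk (IsOpenImmersion.lift (Ul p (n t)).ι (r t ≫ z).left hr) ?_,
        Over.OverMorphism.ext (IsOpenImmersion.lift_fac _ _ _)⟩
      show IsOpenImmersion.lift _ _ hr ≫ (Ul p _).ι ≫ p.P.hom = _
      rw [IsOpenImmersion.lift_fac_assoc]
      exact Over.w (r t ≫ z)
    choose x' hx' using fun t => lift_ t x fun s hs => hs.1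
    choose y' hy' using fun t => lift_ t y fun s hs => hs.2
    have key : ∀ t, (r t ≫ x) ≫ c = (r t ≫ y) ≫ c ↔ SameP p (r t ≫ x) (r t ≫ y) := fun t => by
      haveI := mono_jQQ p (n t)
      rw [← hx' t, ← hy' t, Category.assoc, Category.assoc, hc, ← Category.assoc, ← Category.assoc, cancel_mono, cl_eq_iff]
    constructor
    · intro h
      exact sameP_of_cover p r (fun t => inferInstanceAs (IsOpenImmersion (W t).ι)) hcov fun t =>
        (key t).1 (by rw [Category.assoc, Category.assoc, h])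
    · intro h
      refine MultSubLib.hom_ext_flat_cover r (fun t => inferInstanceAs (Flat (W t).ι)) hcov fun t => ?_
      rw [← Category.assoc, ← Category.assoc]
      exact (key t).2 (h.comp (r t))

end MultSubFTLib
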