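import Groth.Agent.RedRankLib.Fam
import Groth.Agent.MultSubLib.Family
import Groth.Agent.DescHomLib.MultBC
import Groth.Agent.MultNhdLib.FamBC
import Groth.Agent.TransporterLib.SubTop
import Groth.Agent.S5273

/-!
Families which agree on a nilpotent thickening are conjugate.
-/

set_option autoImplicit false
set_option backward.isDefEq.respectTransparency false
set_option linter.style.haveILetI false
set_option synthInstance.maxHeartbeats 400000

noncomputable section

universe u

open CategoryTheory CategoryTheory.Limits MonoidalCategory CartesianMonoidalCategory AlgebraicGeometry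
open scoped MonObj

attribute [-instance] CategoryTheory.Hom.commGroup

namespace MultSubFTLib

open Groth.Agent.RedRank (homOf isMonHom_homOf comp_homOf bcEquiv_lift bcEquiv_one proj pobj piso)
open Groth.Agent.HomRep (bcEquiv bcEquiv_mul)

variable {S : Scheme.{u}} {H G : Over S} [GrpObj H] [GrpObj G]

theorem bcEquiv_inv {P : Scheme.{u}} (p : P ⟶ S) {Z : Over P} (g : (Over.map p).obj Z ⟶ G) :
    bcEquiv p G Z g⁻¹ = (bcEquiv p G Z g)⁻¹ := by
  rw [eq_inv_iff_mul_eq_one, ← bcEquiv_mul, inv_mul_cancel, bcEquiv_one]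

/-- The conjugate of a family. -/
def conjFam {T : Over S} (g : T ⟶ G) (ψ : H ⊗ T ⟶ G) : H ⊗ T ⟶ G :=
  (snd H T ≫ g) * ψ * (snd H T ≫ g)⁻¹

theorem lift_conjFam {T : Over S} (g : T ⟶ G) (ψ : H ⊗ T ⟶ G) {Y : Over S} (h : Y ⟶ H) (t : Y ⟶ T) :
    lift h t ≫ conjFam g ψ = (t ≫ g) * (lift h t ≫ ψ) * (t ≫ g)⁻¹ := by
  rw [conjFam, MonObj.comp_mul, MonObj.comp_mul, GrpObj.comp_inv, lift_snd_assoc]

theorem isHomFamily_conjFam {T : Over S} (g : T ⟶ G) {ψ : H ⊗ T ⟶ G} (hψ : AutFam.IsHomFamily H G ψ) :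
    AutFam.IsHomFamily H G (conjFam g ψ) := by
  intro Y a b t
  rw [lift_conjFam, lift_conjFam, lift_conjFam, hψ]
  group

theorem famMono_conjFam {T : Over S} (g : T ⟶ G) {ψ : H ⊗ T ⟶ G} (hψ : MultSubLib.FamMono ψ) :
    MultSubLib.FamMono (conjFam g ψ) := by
  intro Y t h e
  rw [lift_conjFam, mul_inv_eq_one] at e
  exact hψ Y t h (mul_eq_left.1 e)

theorem exists_conj_families [Smooth G.hom] (hH : SGA3x.IsMultTypeFT H) {C : Type u} [CommRing C] (J : Ideal C)
    (hJ : IsNilpotent J) (pT : Spec (CommRingCat.of C) ⟶ S)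
    {ψ ψ' : H ⊗ Over.mk pT ⟶ G} (hψ : AutFam.IsHomFamily H G ψ) (hψ' : AutFam.IsHomFamily H G ψ')
    (a : Over.mk (Spec.map (CommRingCat.ofHom (Ideal.Quotient.mk J)) ≫ pT) ⟶ Over.mk pT)
    (ha : a.left = Spec.map (CommRingCat.ofHom (Ideal.Quotient.mk J)))
    (h : (H ◁ a) ≫ ψ = (H ◁ a) ≫ ψ') :
    ∃ g : Over.mk pT ⟶ G, a ≫ g = 1 ∧
      ∀ (Y : Over S) (h : Y ⟶ H) (t : Y ⟶ Over.mk pT),
        lift h t ≫ ψ' = lift h t ≫ conjFam g ψ := by
  let T : Over S := Over.mk pT
  let GC := Red.bc T.hom G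
  let HC := Red.bc T.hom H
  haveI : Smooth GC.hom := MorphismProperty.pullback_snd (P := @Smooth) _ _ inferInstance
  haveI : IsMonHom (M := HC) (N := GC) (homOf ψ) := isMonHom_homOf hψ
  haveI : IsMonHom (M := HC) (N := GC) (homOf ψ') := isMonHom_homOf hψ'
  let S₀ : Over (Spec (CommRingCat.of C)) := Over.mk (Spec.map (CommRingCat.ofHom (Ideal.Quotient.mk J)))
  obtain ⟨gC, hg0, hg⟩ := Groth.Agent.S5273.result J hJ HC GC
    (Groth.Agent.Transporter.locally_of_isMultTypeFT (Groth.Agent.DescHom.isMultTypeFT_bc hH T.hom)) inferInstance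
    (homOf ψ) (homOf ψ') 1 (fun X p k => by
      rw [MonObj.comp_one, one_mul, inv_one, mul_one]
      erw [comp_homOf ψ' (Z := X) k, comp_homOf ψ (Z := X) k]
      refine congrArg (bcEquiv T.hom G X) ?_
      let p' : (Over.map T.hom).obj X ⟶ Over.mk (Spec.map (CommRingCat.ofHom (Ideal.Quotient.mk J)) ≫ pT) :=
        Over.homMk p.left (by
          show p.left ≫ S₀.hom ≫ pT = X.hom ≫ pT
          rw [← Category.assoc, Over.w p])
      have hp : p' ≫ a = proj T X := Over.OverMorphism.ext (by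
        show p.left ≫ a.left = X.hom
        rw [ha]
        exact Over.w p)
      rw [← hp, ← lift_whiskerLeft_assoc, ← lift_whiskerLeft_assoc, h])
  let g : T ⟶ G := Over.homMk (gC.left ≫ pullback.fst G.hom T.hom) (by
    rw [Category.assoc, pullback.condition, ← Category.assoc]
    exact (congrArg (· ≫ T.hom) (Over.w gC)).trans (Category.id_comp _))
  have key : ∀ (Y : Over S) (t : Y ⟶ T),
      bcEquiv T.hom G (pobj t) ((piso t).hom ≫ t ≫ g) = toUnit (pobj t) ≫ gC := fun Y t => by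
    have hu : (toUnit (pobj t)).left = t.left :=
      (Category.comp_id _).symm.trans (Over.w (toUnit (pobj t)))
    refine Over.OverMorphism.ext (pullback.hom_ext ?_ ((Over.w _).trans (Over.w _).symm))
    rw [MultSubLib.bcEquiv_left_fst]
    simp only [Over.comp_left, Category.assoc]
    rw [hu]
    exact Category.id_comp _
  refine ⟨g, ?_, fun Y k t => ?_⟩
  · have h1 := congrArg (fun m : S₀ ⟶ GC => (bcEquiv T.hom G S₀).symm m) hg0
    rw [show ((bcEquiv T.hom G S₀).symm (1 : S₀ ⟶ GC)) = 1 from (Equiv.symm_apply_eq _).2 (bcEquiv_one T.hom S₀).symm] at h1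
    refine Over.OverMorphism.ext ?_
    have h2 : (toUnit S₀ ≫ gC).left ≫ pullback.fst G.hom T.hom = (1 : (Over.map T.hom).obj S₀ ⟶ G).left :=
      (MultSubLib.bcEquiv_symm_left T.hom G _).symm.trans (congrArg CommaMorphism.left h1)
    have hu : (toUnit S₀).left = S₀.hom := (Category.comp_id _).symm.trans (Over.w (toUnit S₀))
    rw [Over.comp_left, ha]
    refine Eq.trans ?_ h2
    show S₀.hom ≫ gC.left ≫ pullback.fst G.hom T.hom = _
    rw [Over.comp_left, hu, Category.assoc]
  · rw [← cancel_epi (piso t).hom]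
    refine (bcEquiv T.hom G (pobj t)).injective ?_
    rw [lift_conjFam, MonObj.comp_mul, MonObj.comp_mul, GrpObj.comp_inv, bcEquiv_mul, bcEquiv_mul, bcEquiv_inv,
      key Y t, bcEquiv_lift, bcEquiv_lift]
    exact hg _ _

end MultSubFTLib
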