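import Groth.Agent.MultSubFTLib.Restrict

/-!
Finitely generated groups are residually finite; families are determined by their restrictions to the finite
quotients of the characters.
-/

set_option autoImplicit false
set_option backward.isDefEq.respectTransparency false
set_option linter.style.haveILetI false
set_option synthInstance.maxHeartbeats 400000

noncomputable section

universe u

open CategoryTheory CategoryTheory.Limits MonoidalCategory CartesianMonoidalCategory AlgebraicGeometry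
open scoped MonObj

attribute [-instance] CategoryTheory.Hom.commGroup

namespace MultSubFTLib

open MultSubLib (tw lift_tw chars dd)

section Residual

variable {N : Type} [AddCommGroup N] [AddGroup.FG N]

theorem exists_not_mem_multiples {a : N} (ha : a ≠ 0) : ∃ n, 0 < n ∧ a ∉ multiples N n := by
  obtain ⟨r, J, hJ, p, hp, e, ⟨f⟩⟩ := AddCommGroup.equiv_free_prod_directSum_zmod N
  haveI := hJ
  haveI : ∀ i, NeZero (p i ^ e i) := fun i => ⟨pow_ne_zero _ (hp i).ne_zero⟩
  haveI : Finite (DirectSum J fun i => ZMod (p i ^ e i)) :=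
    Finite.of_equiv _ (DirectSum.addEquivProd fun i => ZMod (p i ^ e i)).toEquiv.symm
  let c := Nat.card (DirectSum J fun i => ZMod (p i ^ e i))
  have hc : 0 < c := Nat.card_pos
  let b := ∑ i, ((f a).1 i).natAbs
  refine ⟨c * (b + 1), Nat.mul_pos hc b.succ_pos, ?_⟩
  rintro ⟨y, hy⟩
  have hy' : (c * (b + 1)) • f y = f a := by rw [← map_nsmul]; exact congrArg f hy
  refine ha (f.injective (?_ : f a = f 0))
  rw [map_zero]
  refine Prod.ext ?_ ?_
  · refine Finsupp.ext fun i => ?_
    have h1 : (f a).1 i = (c * (b + 1) : ℕ) * (f y).1 i := by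
      rw [← hy', Prod.smul_fst, Finsupp.smul_apply, nsmul_eq_mul]
    by_contra hne
    have h2 : ((f a).1 i).natAbs = c * (b + 1) * ((f y).1 i).natAbs := by
      rw [h1, Int.natAbs_mul, Int.natAbs_natCast]
    have h3 : ((f a).1 i).natAbs ≤ b := Finset.single_le_sum (f := fun j => ((f a).1 j).natAbs)
      (fun j _ => Nat.zero_le _) (Finset.mem_univ i)
    have h4 : 0 < ((f y).1 i).natAbs := by
      rcases Nat.eq_zero_or_pos ((f y).1 i).natAbs with h | h
      · rw [h, Nat.mul_zero] at h2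
        exact absurd (Int.natAbs_eq_zero.1 h2) hne
      · exact h
    have h5 : b + 1 ≤ c * (b + 1) := Nat.le_mul_of_pos_left _ hc
    have h6 : c * (b + 1) ≤ c * (b + 1) * ((f y).1 i).natAbs := Nat.le_mul_of_pos_right _ h4
    omega
  · show (f a).2 = 0
    rw [← hy', Prod.smul_snd, mul_comm, mul_nsmul', card_nsmul_eq_zero', nsmul_zero]

/-- The factorials. -/
abbrev fac (l : ℕ) : ℕ := (l + 1).factorial

theorem fac_dvd {l m : ℕ} (h : l ≤ m) : fac l ∣ fac m := Nat.factorial_dvd_factorial (Nat.succ_le_succ h)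

theorem multiples_anti {n m : ℕ} (h : n ∣ m) : multiples N m ≤ multiples N n := by
  obtain ⟨k, rfl⟩ := h
  rintro _ ⟨y, rfl⟩
  exact ⟨k • y, by simp [mul_nsmul']⟩

theorem exists_level_injOn (F : Set N) (hF : F.Finite) :
    ∃ l, Set.InjOn (QuotientAddGroup.mk' (multiples N (fac l))) F := by
  classical
  have h : ∀ q : F × F, ∃ n, 0 < n ∧ (q.1.1 - q.2.1 ∈ multiples N n → q.1.1 = q.2.1) := fun q => by
    by_cases e : q.1.1 - q.2.1 = 0
    · exact ⟨1, one_pos, fun _ => sub_eq_zero.1 e⟩
    · obtain ⟨n, hn, hn'⟩ := exists_not_mem_multiples e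
      exact ⟨n, hn, fun h => absurd h hn'⟩
  choose n hn hn' using h
  haveI := hF.to_subtype
  obtain ⟨l, hl⟩ := (Set.finite_range n).bddAbove
  refine ⟨l, fun a ha b hb e => hn' (⟨a, ha⟩, ⟨b, hb⟩) (multiples_anti (m := fac l) ?_ ?_)⟩
  · exact Nat.dvd_factorial (hn _) ((hl ⟨_, rfl⟩).trans (Nat.le_succ l))
  · rw [← QuotientAddGroup.eq_zero_iff, ← QuotientAddGroup.mk'_apply, map_sub, e, sub_self]

end Residual

theorem appTop_map_inv {A B : Type u} [CommRing A] [CommRing B] (φ : A →+* B) (a : A) :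
    (Spec.map (CommRingCat.ofHom φ)).appTop ((Scheme.ΓSpecIso (CommRingCat.of A)).inv a) =
      (Scheme.ΓSpecIso (CommRingCat.of B)).inv (φ a) :=
  congrArg (fun k : CommRingCat.of A ⟶ Γ(Spec (CommRingCat.of B), ⊤) => k a)
    (Scheme.ΓSpecIso_inv_naturality (CommRingCat.ofHom φ)).symm

variable {S : Scheme.{u}} {G : Over S} {N : Type} [AddCommGroup N] [GrpObj G] [IsAffineHom G.hom]

theorem ext_of_restrictions {C : Type u} [CommRing C] (pC : Spec (CommRingCat.of C) ⟶ S)
    {J : Type} (M : J → Type) [∀ i, AddCommGroup (M i)] (π : ∀ i, Multiplicative N →* Multiplicative (M i))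
    (hsep : ∀ F : Finset (Multiplicative N), ∃ i, Set.InjOn (π i) (F : Set (Multiplicative N)))
    {ψ ψ' : Red.DS S N ⊗ Over.mk pC ⟶ G} (h : ∀ i, tw (π i) ψ = tw (π i) ψ') : ψ = ψ' := by
  classical
  let T : Over S := Over.mk pC
  let R := MonoidAlgebra C (Multiplicative N)
  let Y : Over S := Over.mk (Spec.map (CommRingCat.ofHom (algebraMap C R)) ≫ pC)
  let t₀ : Y ⟶ T := Over.homMk (Spec.map (CommRingCat.ofHom (algebraMap C R))) rfl
  let χ₀ : Multiplicative N →* Γ(Y.left, ⊤) :=
    (Scheme.ΓSpecIso (CommRingCat.of R)).inv.hom.toMonoidHom.comp (MonoidAlgebra.of C (Multiplicative N))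
  let h₀ : Y ⟶ Red.DS S N := DSPtsLib.dsPt χ₀
  have step : lift h₀ t₀ ≫ ψ = lift h₀ t₀ ≫ ψ' := by
    let P := pullback G.hom pC
    haveI : IsAffine P := isAffine_of_isAffineHom (pullback.snd G.hom pC)
    have w : ∀ k : Y ⟶ G, k.left ≫ G.hom = t₀.left ≫ pC := fun k => Over.w k
    let a : Y.left ⟶ P := pullback.lift (lift h₀ t₀ ≫ ψ).left t₀.left (w _)
    let b : Y.left ⟶ P := pullback.lift (lift h₀ t₀ ≫ ψ').left t₀.left (w _)
    suffices e : a = b from Over.OverMorphism.ext (by
      have := congrArg (· ≫ pullback.fst G.hom pC) e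
      simpa only [a, b, pullback.lift_fst] using this)
    refine ext_of_isAffine ?_
    ext x
    refine (ConcreteCategory.bijective_of_isIso (Scheme.ΓSpecIso (CommRingCat.of R)).hom).1 ?_
    let r : R := (Scheme.ΓSpecIso (CommRingCat.of R)).hom (a.appTop x)
    let r' : R := (Scheme.ΓSpecIso (CommRingCat.of R)).hom (b.appTop x)
    show r = r'
    obtain ⟨i, hi⟩ := hsep (r.coeff.support ∪ r'.coeff.support)
    let Ri := MonoidAlgebra C (Multiplicative (M i))
    let fi : R →ₐ[C] Ri := MonoidAlgebra.mapDomainAlgHom C C (π i)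
    let Yi : Over S := Over.mk (Spec.map (CommRingCat.ofHom (algebraMap C Ri)) ≫ pC)
    let mi : Yi ⟶ Y := Over.homMk (Spec.map (CommRingCat.ofHom fi.toRingHom)) (by
      show Spec.map _ ≫ Spec.map _ ≫ pC = _
      rw [← Spec.map_comp_assoc, ← CommRingCat.ofHom_comp, AlgHom.toRingHom_eq_coe, AlgHom.comp_algebraMap]
      rfl)
    let χi : Multiplicative (M i) →* Γ(Yi.left, ⊤) :=
      (Scheme.ΓSpecIso (CommRingCat.of Ri)).inv.hom.toMonoidHom.comp (MonoidAlgebra.of C (Multiplicative (M i)))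
    have hh : mi ≫ h₀ = DSPtsLib.dsPt χi ≫ dd S (π i) := by
      refine MultSubLib.chars_injective ?_
      rw [MultSubLib.chars_comp_dd, MultSubLib.chars_comp, MultSubLib.chars_dsPt, MultSubLib.chars_dsPt]
      refine MonoidHom.ext fun m => ?_
      show (Spec.map (CommRingCat.ofHom fi.toRingHom)).appTop ((Scheme.ΓSpecIso (CommRingCat.of R)).inv _) = _
      refine (appTop_map_inv fi.toRingHom _).trans ?_
      show _ = (Scheme.ΓSpecIso (CommRingCat.of Ri)).inv (MonoidAlgebra.of C (Multiplicative (M i)) (π i m))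
      refine congrArg (Scheme.ΓSpecIso (CommRingCat.of Ri)).inv ?_
      simp only [fi]
      exact MonoidAlgebra.mapDomain_single
    have key : mi ≫ lift h₀ t₀ ≫ ψ = mi ≫ lift h₀ t₀ ≫ ψ' := by
      have h1 := congrArg (lift (DSPtsLib.dsPt χi) (mi ≫ t₀) ≫ ·) (h i)
      simp only [lift_tw, ← hh] at h1
      simpa only [comp_lift_assoc] using h1
    have e1 : mi.left ≫ a = mi.left ≫ b := by
      refine pullback.hom_ext ?_ ?_
      · simp only [a, b, Category.assoc, pullback.lift_fst]
        exact congrArg CommaMorphism.left key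
      · simp only [a, b, Category.assoc, pullback.lift_snd]
    have e2 : fi r = fi r' := by
      have h2 := congrArg (fun k : Spec (CommRingCat.of Ri) ⟶ P => (Scheme.ΓSpecIso (CommRingCat.of Ri)).hom (k.appTop x)) e1
      simp only [Scheme.Hom.comp_appTop, CommRingCat.comp_apply] at h2
      have nat : ∀ y, (Scheme.ΓSpecIso (CommRingCat.of Ri)).hom ((Spec.map (CommRingCat.ofHom fi.toRingHom)).appTop y) =
          fi ((Scheme.ΓSpecIso (CommRingCat.of R)).hom y) := fun y => by
        rw [← CommRingCat.comp_apply, Scheme.ΓSpecIso_naturality]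
        rfl
      exact (nat _).symm.trans (h2.trans (nat _))
    have e3 : Finsupp.mapDomain (π i) r.coeff = Finsupp.mapDomain (π i) r'.coeff := congrArg MonoidAlgebra.coeff e2
    have e4 := Finsupp.mapDomain_injOn ((r.coeff.support ∪ r'.coeff.support : Finset _) : Set (Multiplicative N))
      hi (x₁ := r.coeff) (by simp) (x₂ := r'.coeff) (by simp) e3
    exact congrArg MonoidAlgebra.ofCoeff e4
  let W := Red.DS S N ⊗ T
  let χ : Multiplicative N →* Γ(W.left, ⊤) := chars (fst (Red.DS S N) T)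
  let g : C →+* Γ(W.left, ⊤) := ((Scheme.ΓSpecIso (CommRingCat.of C)).inv ≫ (snd (Red.DS S N) T).left.appTop).hom
  letI : Algebra C Γ(W.left, ⊤) := g.toAlgebra
  let L : R →ₐ[C] Γ(W.left, ⊤) := MonoidAlgebra.lift C Γ(W.left, ⊤) (Multiplicative N) χ
  let m₀ : W.left ⟶ Y.left := W.left.toSpecΓ ≫ Spec.map (CommRingCat.ofHom L.toRingHom)
  have hm : m₀ ≫ t₀.left = (snd (Red.DS S N) T).left := by
    show (_ ≫ Spec.map _) ≫ Spec.map _ = _
    rw [Category.assoc, ← Spec.map_comp, ← CommRingCat.ofHom_comp, AlgHom.toRingHom_eq_coe, AlgHom.comp_algebraMap,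
      RingHom.algebraMap_toAlgebra]
    show _ ≫ Spec.map (CommRingCat.ofHom ((Scheme.ΓSpecIso _).inv ≫ _).hom) = _
    rw [CommRingCat.ofHom_hom, Spec.map_comp, ← Scheme.toSpecΓ_naturality_assoc]
    exact (congrArg ((snd (Red.DS S N) T).left ≫ ·) (toSpecΓ_SpecMap_ΓSpecIso_inv _)).trans (Category.comp_id _)
  let m : W ⟶ Y := Over.homMk m₀ (by
    show m₀ ≫ t₀.left ≫ pC = W.hom
    rw [← Category.assoc, hm]
    exact Over.w (snd (Red.DS S N) T))
  have e : m ≫ lift h₀ t₀ = 𝟙 W := by
    rw [comp_lift]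
    refine CartesianMonoidalCategory.hom_ext _ _ ?_ ?_
    · rw [lift_fst, Category.id_comp]
      refine MultSubLib.chars_injective ?_
      rw [MultSubLib.chars_comp, MultSubLib.chars_dsPt]
      refine MonoidHom.ext fun n => ?_
      show m₀.appTop ((Scheme.ΓSpecIso (CommRingCat.of R)).inv _) = χ n
      simp only [m₀, Scheme.Hom.comp_appTop, CommRingCat.comp_apply, Scheme.toSpecΓ_appTop]
      refine (congrArg (Scheme.ΓSpecIso Γ(W.left, ⊤)).hom (appTop_map_inv L.toRingHom _)).trans ?_
      refine ((Scheme.ΓSpecIso Γ(W.left, ⊤)).commRingCatIsoToRingEquiv.apply_symm_apply _).trans ?_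
      exact MonoidAlgebra.lift_of _ _
    · rw [lift_snd, Category.id_comp]
      exact Over.OverMorphism.ext hm
  rw [← Category.id_comp ψ, ← e, Category.assoc, step, ← Category.assoc, e, Category.id_comp]

end MultSubFTLib
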