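import Groth.Agent.MultSubFTLib.Colimit
import Groth.Agent.MultSubLib.Family
import Groth.Agent.FlatLib.SmoothScheme

/-!
The scheme of subgroups of multiplicative type.
-/

set_option autoImplicit false
set_option backward.isDefEq.respectTransparency false
set_option linter.style.haveILetI false
set_option synthInstance.maxHeartbeats 400000

noncomputable section

universe u

open CategoryTheory CategoryTheory.Limits MonoidalCategory CartesianMonoidalCategory AlgebraicGeometry
open scoped MonObj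

attribute [-instance] CategoryTheory.Hom.commGroup

namespace MultSubFTLib

open MultSubLib (Tri famTri)

variable {S : Scheme.{u}} (G : Over S) [GrpObj G] [IsAffineHom G.hom] [Smooth G.hom]

/-- The index in the universe of the schemes. -/
abbrev Kp : Type u := ULift.{u} Idx

/-- The chosen piece. -/
def pc (k : Kp.{u}) : Piece G (NN k.down) := (nonempty_piece (G := G) (NN k.down)).some

/-- A quotient of a piece by the relation of having the same subgroup. -/
structure PQ {N : Type} [AddCommGroup N] (p : Piece G N) where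
  /-- the quotient -/
  Q : Over S
  /-- the map -/
  c : p.P ⟶ Q
  etale : Etale c.left
  surj : Surjective c.left
  rel : ∀ (T : Over S) (x y : T ⟶ p.P), x ≫ c = y ≫ c ↔ SameP p x y

theorem nonempty_PQ {N : Type} [AddCommGroup N] [AddGroup.FG N] (p : Piece G N) : Nonempty (PQ G p) := by
  obtain ⟨Q, c, h1, h2, h3⟩ := exists_quot p
  exact ⟨⟨Q, c, h1, h2, h3⟩⟩

/-- The chosen quotient of a piece. -/
def pq (k : Kp.{u}) : PQ G (pc G k) := Classical.choice (nonempty_PQ G (pc G k))

/-- The sum of the quotients. -/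
def MM : Over S := Over.mk (Limits.Sigma.desc fun k : Kp.{u} => (pq G k).Q.hom)

/-- The inclusion of a quotient. -/
def jM (k : Kp.{u}) : (pq G k).Q ⟶ MM G :=
  Over.homMk (Limits.Sigma.ι (fun k : Kp.{u} => (pq G k).Q.left) k) (Limits.Sigma.ι_desc _ _)

theorem isOpenImmersion_jM (k : Kp.{u}) : IsOpenImmersion (jM G k).left :=
  inferInstanceAs (IsOpenImmersion (Limits.Sigma.ι (fun k : Kp.{u} => (pq G k).Q.left) k))

/-- The subgroup of a family, in the sum. -/
def uu (k : Kp.{u}) : (pc G k).P ⟶ MM G := (pq G k).c ≫ jM G k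

theorem uu_comp (k : Kp.{u}) : (uu G k).left ≫ (MM G).hom = (pc G k).P.hom := Over.w (uu G k)

/-- The subscheme of the universal family of a piece. -/
def VP (k : Kp.{u}) : Tri G.left (pc G k).P.left := famTri (pc G k).φ (pc G k).hom (pc G k).mono

theorem etale_uu' (k : Kp.{u}) : Etale (uu G k).left := by
  haveI := (pq G k).etale
  haveI := isOpenImmersion_jM G k
  exact inferInstanceAs (Etale ((pq G k).c.left ≫ (jM G k).left))

theorem exists_piece_point (m : (MM G).left) : ∃ (k : Kp.{u}) (p : (pc G k).P.left), (uu G k).left p = m := by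
  obtain ⟨k, z, hz⟩ := DescLib.exists_sigma_mem m
  haveI := (pq G k).surj
  obtain ⟨p, hp⟩ := (pq G k).c.left.surjective z
  refine ⟨k, p, ?_⟩
  show Limits.Sigma.ι (fun k : Kp.{u} => (pq G k).Q.left) k ((pq G k).c.left p) = m
  rw [hp, hz]

theorem fpqc_uu : DescLib.Fpqc (Limits.Sigma.desc fun k : Kp.{u} => (uu G k).left) ∧
    Etale (Limits.Sigma.desc fun k : Kp.{u} => (uu G k).left) := by
  haveI he : Etale (Limits.Sigma.desc fun k : Kp.{u} => (uu G k).left) :=
    IsZariskiLocalAtSource.sigmaDesc fun k => etale_uu' G k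
  haveI : Surjective (Limits.Sigma.desc fun k : Kp.{u} => (uu G k).left) := ⟨fun m => by
    obtain ⟨k, p, rfl⟩ := exists_piece_point G m
    refine ⟨Limits.Sigma.ι (fun k : Kp.{u} => (pc G k).P.left) k p, ?_⟩
    rw [← Scheme.Hom.comp_apply, Limits.Sigma.ι_desc]⟩
  exact ⟨fpqc_of_open _ (Limits.Sigma.desc fun k : Kp.{u} => (uu G k).left).isOpenMap, he⟩

variable {G}

/-- Families with the same subgroup give the same point. -/
theorem uu_eq {X : Over S} {k l : Kp.{u}} (x : X ⟶ (pc G k).P) (y : X ⟶ (pc G l).P)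
    (h : Tri.Same (fT (pc G k) x) (fT (pc G l) y)) : x ≫ uu G k = y ≫ uu G l := by
  by_cases hne : Nonempty X.left
  · obtain ⟨z⟩ := hne
    obtain ⟨U, j, hj, hz, α, hα⟩ := MultSubLib.exists_local_iso
      (RepDescLib.isHomFamily_comp _ _ x (pc G k).hom) ((pc G k).mono.comp x)
      (RepDescLib.isHomFamily_comp _ _ y (pc G l).hom) ((pc G l).mono.comp y) h z
    obtain ⟨k⟩ := k
    obtain ⟨l⟩ := l
    obtain rfl : k = l := (idx_eq (AddEquiv.toMultiplicative.symm α)).symm
    show x ≫ (pq G ⟨k⟩).c ≫ jM G ⟨k⟩ = y ≫ (pq G ⟨k⟩).c ≫ jM G ⟨k⟩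
    rw [← Category.assoc, ((pq G ⟨k⟩).rel X x y).2 h, Category.assoc]
  · exact MultSubLib.hom_ext_flat_cover (fun i : PEmpty.{u + 1} => (i.elim : X ⟶ X)) (fun i => i.elim)
      (fun t => absurd ⟨t⟩ hne) fun i => i.elim

/-- Families giving the same point have the same subgroup. -/
theorem same_of_uu_eq {X : Over S} {k l : Kp.{u}} (x : X ⟶ (pc G k).P) (y : X ⟶ (pc G l).P)
    (h : x ≫ uu G k = y ≫ uu G l) : Tri.Same (fT (pc G k) x) (fT (pc G l) y) := by
  by_cases hne : Nonempty X.left
  · haveI := hne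
    obtain rfl : k = l := DescLib.idx_eq (x ≫ (pq G k).c).left (y ≫ (pq G l).c).left (by
      exact (Category.assoc _ _ _).trans ((congrArg CommaMorphism.left h).trans (Category.assoc _ _ _).symm))
    haveI := isOpenImmersion_jM G k
    haveI : Mono (jM G k) := Over.mono_of_mono_left _
    refine ((pq G k).rel X x y).1 ?_
    rw [← cancel_mono (jM G k), Category.assoc, Category.assoc]
    exact h
  · haveI : IsEmpty X.left := not_nonempty_iff.1 hne
    exact Tri.same_of_openCover (fun i : PEmpty.{u + 1} => (i.elim : X.left ⟶ X.left)) (fun i => i.elim)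
      (fun t => isEmptyElim t) fun i => i.elim

variable (G)

theorem smooth_MM : Smooth (MM G).hom :=
  IsZariskiLocalAtSource.sigmaDesc fun k => by
    haveI := (pq G k).etale
    haveI := (pq G k).surj
    haveI := (pc G k).smooth
    haveI : Smooth ((pq G k).c.left ≫ (pq G k).Q.hom) := by rw [Over.w (pq G k).c]; infer_instance
    exact FlatLib.smooth_of_fppf_comp (pq G k).c.left (pq G k).Q.hom

theorem separated_MM : IsSeparated (MM G).hom := by
  refine ⟨IsClosedImmersion.of_isPreimmersion _ ?_⟩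
  let h₀ := (MM G).hom
  rw [← isOpen_compl_iff]
  refine isOpen_iff_forall_mem_open.2 fun w hw => ?_
  obtain ⟨k, p, hp⟩ := exists_piece_point G (pullback.fst h₀ h₀ w)
  obtain ⟨l, q, hq⟩ := exists_piece_point G (pullback.snd h₀ h₀ w)
  haveI := etale_uu' G k
  haveI := etale_uu' G l
  let a := (uu G k).left
  let b := (uu G l).left
  obtain ⟨w₁, hw₁, -⟩ := Scheme.Pullback.exists_preimage_pullback (f := pullback.fst h₀ h₀) (g := a) w p hp.symm
  let e₁ := pullback.fst (pullback.fst h₀ h₀) a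
  obtain ⟨w₂, hw₂, -⟩ := Scheme.Pullback.exists_preimage_pullback (f := e₁ ≫ pullback.snd h₀ h₀) (g := b) w₁ q (by
    show pullback.snd h₀ h₀ (e₁ w₁) = b q
    rw [hw₁]
    exact hq.symm)
  let e₂ := pullback.fst (e₁ ≫ pullback.snd h₀ h₀) b
  let f := e₂ ≫ e₁
  let X : Over S := Over.mk (f ≫ pullback.fst h₀ h₀ ≫ h₀)
  let x : X ⟶ (pc G k).P := Over.homMk (e₂ ≫ pullback.snd (pullback.fst h₀ h₀) a) (by
    show (e₂ ≫ pullback.snd _ a) ≫ (pc G k).P.hom = (e₂ ≫ e₁) ≫ pullback.fst h₀ h₀ ≫ h₀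
    rw [← uu_comp G k, Category.assoc, ← pullback.condition_assoc, Category.assoc])
  let y : X ⟶ (pc G l).P := Over.homMk (pullback.snd (e₁ ≫ pullback.snd h₀ h₀) b) (by
    show pullback.snd _ b ≫ (pc G l).P.hom = (e₂ ≫ e₁) ≫ pullback.fst h₀ h₀ ≫ h₀
    rw [← uu_comp G l, ← pullback.condition_assoc, pullback.condition (f := h₀), Category.assoc, Category.assoc])
  have hx : (x ≫ uu G k).left = f ≫ pullback.fst h₀ h₀ := by
    show (e₂ ≫ pullback.snd _ a) ≫ a = (e₂ ≫ e₁) ≫ _
    rw [Category.assoc, ← pullback.condition, Category.assoc]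
  have hy : (y ≫ uu G l).left = f ≫ pullback.snd h₀ h₀ := by
    show pullback.snd _ b ≫ b = (e₂ ≫ e₁) ≫ _
    rw [← pullback.condition, Category.assoc]
  obtain ⟨Z, i, hi, hZ⟩ := exists_same_locus (MultSubLib.isMultTypeFT_DS S (NN k.down))
    (MultSubLib.isMultTypeFT_DS S (NN l.down)) _ (RepDescLib.isHomFamily_comp _ _ x (pc G k).hom) ((pc G k).mono.comp x)
    _ (RepDescLib.isHomFamily_comp _ _ y (pc G l).hom) ((pc G l).mono.comp y)
  haveI := hi
  have key : ∀ (T : Over S) (a : T ⟶ X), (∃ b, b ≫ i = a) ↔ Tri.Same (fT (pc G k) (a ≫ x)) (fT (pc G l) (a ≫ y)) := by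
    intro T a
    refine (hZ T a).trans ?_
    have e1 := MultSubLib.famTri_congr (whiskerLeft_comp_assoc (Red.DS S (NN k.down)) a x (pc G k).φ).symm
      (RepDescLib.isHomFamily_comp _ _ a (RepDescLib.isHomFamily_comp _ _ x (pc G k).hom)) (((pc G k).mono.comp x).comp a)
      (RepDescLib.isHomFamily_comp _ _ (a ≫ x) (pc G k).hom) ((pc G k).mono.comp (a ≫ x))
    have e2 := MultSubLib.famTri_congr (whiskerLeft_comp_assoc (Red.DS S (NN l.down)) a y (pc G l).φ).symm
      (RepDescLib.isHomFamily_comp _ _ a (RepDescLib.isHomFamily_comp _ _ y (pc G l).hom)) (((pc G l).mono.comp y).comp a)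
      (RepDescLib.isHomFamily_comp _ _ (a ≫ y) (pc G l).hom) ((pc G l).mono.comp (a ≫ y))
    exact ⟨fun h => e1.symm.trans (h.trans e2), fun h => e1.trans (h.trans e2.symm)⟩
  let Δ := pullback.diagonal h₀
  have hsub : ∀ v : X.left, f v ∈ Set.range Δ → v ∈ Set.range i.left := by
    rintro v ⟨m, hm⟩
    obtain ⟨v', hv', -⟩ := Scheme.Pullback.exists_preimage_pullback (f := f) (g := Δ) v m hm.symm
    let T : Over S := Over.mk (pullback.fst f Δ ≫ X.hom)
    let t : T ⟶ X := Over.homMk (pullback.fst f Δ) rfl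
    have h : (t ≫ x) ≫ uu G k = (t ≫ y) ≫ uu G l := by
      refine Over.OverMorphism.ext ?_
      rw [Category.assoc, Category.assoc]
      show pullback.fst f Δ ≫ (x ≫ uu G k).left = pullback.fst f Δ ≫ (y ≫ uu G l).left
      rw [hx, hy]
      rw [pullback.condition_assoc, pullback.condition_assoc, pullback.diagonal_fst, pullback.diagonal_snd]
    obtain ⟨b', hb'⟩ := (key T t).2 (same_of_uu_eq _ _ h)
    exact ⟨b'.left v', (congrArg (fun m => m v') (congrArg CommaMorphism.left hb')).trans hv'⟩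
  have hsup : ∀ z : Z.left, f (i.left z) ∈ Set.range Δ := fun z => by
    have h := congrArg CommaMorphism.left (uu_eq (i ≫ x) (i ≫ y) ((key Z i).1 ⟨𝟙 _, Category.id_comp _⟩))
    rw [Category.assoc, Category.assoc] at h
    replace h : i.left ≫ (x ≫ uu G k).left = i.left ≫ (y ≫ uu G l).left := h
    rw [hx, hy] at h
    refine ⟨(i.left ≫ f ≫ pullback.fst h₀ h₀) z, ?_⟩
    show ((i.left ≫ f ≫ pullback.fst h₀ h₀) ≫ Δ) z = (i.left ≫ f) z
    refine congrArg (fun m : Z.left ⟶ pullback h₀ h₀ => m z) (pullback.hom_ext ?_ ?_)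
    · simp only [Δ, Category.assoc, pullback.diagonal_fst, Category.comp_id]
    · simp only [Δ, Category.assoc, pullback.diagonal_snd, Category.comp_id]
      exact h
  refine ⟨f '' (Set.range i.left)ᶜ, ?_, f.isOpenMap _ i.left.isClosedEmbedding.isClosed_range.isOpen_compl, w₂, ?_, ?_⟩
  · rintro _ ⟨v, hv, rfl⟩ hv'
    exact hv (hsub v hv')
  · rintro ⟨z, rfl⟩
    refine hw ?_
    rw [← hw₁, ← hw₂]
    exact hsup z
  · show e₁ (e₂ w₂) = w
    rw [hw₂, hw₁]

end MultSubFTLib
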