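import Mathlib.GroupTheory.Finiteness
import Mathlib.GroupTheory.QuotientGroup.Basic
import Mathlib.RingTheory.Finiteness.Basic
import Mathlib.RingTheory.Finiteness.Cardinality
import Mathlib.Algebra.Group.TransferInstance
import Mathlib.GroupTheory.FiniteAbelian.Basic

/-!
An index for the isomorphism types of finitely generated commutative groups, and their quotients by multiples.
-/

set_option autoImplicit false

noncomputable section

namespace MultSubFTLib

/-- A quotient of a finite power of the integers. -/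
def Str : Type := Σ n : ℕ, AddSubgroup (Fin n → ℤ)

/-- The underlying type. -/
def Car (a : Str) : Type := (Fin a.1 → ℤ) ⧸ a.2

instance (a : Str) : AddCommGroup (Car a) := inferInstanceAs (AddCommGroup ((Fin a.1 → ℤ) ⧸ a.2))

theorem fg_car (a : Str) : AddGroup.FG (Car a) :=
  haveI : AddGroup.FG (Fin a.1 → ℤ) := Module.Finite.iff_addGroup_fg.1 inferInstance
  AddGroup.fg_of_surjective (f := QuotientAddGroup.mk' a.2) (QuotientAddGroup.mk'_surjective a.2)

instance (a : Str) : AddGroup.FG (Car a) := fg_car a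

/-- Isomorphism of structures. -/
def strSetoid : Setoid Str where
  r a b := Nonempty (Car a ≃+ Car b)
  iseqv := ⟨fun a => ⟨AddEquiv.refl _⟩, fun ⟨e⟩ => ⟨e.symm⟩, fun ⟨e⟩ ⟨e'⟩ => ⟨e.trans e'⟩⟩

/-- The isomorphism types. -/
def Idx : Type := Quotient strSetoid

/-- The group of an isomorphism type. -/
abbrev NN (k : Idx) : Type := Car (Quotient.out (s := strSetoid) k)

theorem exists_idx (M : Type) [AddCommGroup M] [AddGroup.FG M] : ∃ k : Idx, Nonempty (NN k ≃+ M) := by
  haveI : Module.Finite ℤ M := Module.Finite.iff_addGroup_fg.2 inferInstance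
  obtain ⟨n, f, hf⟩ := Module.Finite.exists_fin' ℤ M
  let a : Str := ⟨n, f.toAddMonoidHom.ker⟩
  refine ⟨Quotient.mk strSetoid a, ?_⟩
  obtain ⟨h⟩ := Quotient.mk_out (s := strSetoid) a
  exact ⟨h.trans (QuotientAddGroup.quotientKerEquivOfSurjective f.toAddMonoidHom hf)⟩

theorem idx_eq {k l : Idx} (e : NN k ≃+ NN l) : k = l := by
  rw [← Quotient.out_eq (s := strSetoid) k, ← Quotient.out_eq (s := strSetoid) l]
  exact Quotient.sound (s := strSetoid) ⟨e⟩

/-- The multiples of `n`. -/
abbrev multiples (N : Type) [AddCommGroup N] (n : ℕ) : AddSubgroup N := (nsmulAddMonoidHom (α := N) n).range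

theorem finite_quotient_multiples (N : Type) [AddCommGroup N] [AddGroup.FG N] {n : ℕ} (hn : 0 < n) :
    Finite (N ⧸ multiples N n) := by
  haveI : AddGroup.FG (N ⧸ multiples N n) :=
    AddGroup.fg_of_surjective (f := QuotientAddGroup.mk' _) (QuotientAddGroup.mk'_surjective _)
  refine AddCommGroup.finite_of_fg_isAddTorsion _ fun x => ?_
  obtain ⟨y, rfl⟩ := QuotientAddGroup.mk'_surjective (multiples N n) x
  rw [isOfFinAddOrder_iff_nsmul_eq_zero]
  refine ⟨n, hn, ?_⟩
  rw [← map_nsmul]
  exact (QuotientAddGroup.eq_zero_iff _).2 ⟨y, rfl⟩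

end MultSubFTLib
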