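import Groth.Agent.MultSubFTLib.Density

/-!
The finite levels of a piece.
-/

set_option autoImplicit false
set_option backward.isDefEq.respectTransparency false
set_option linter.style.haveILetI false
set_option synthInstance.maxHeartbeats 400000

noncomputable section

universe u

open CategoryTheory CategoryTheory.Limits MonoidalCategory CartesianMonoidalCategory AlgebraicGeometry
open scoped MonObj

attribute [-instance] CategoryTheory.Hom.commGroup

namespace MultSubFTLib

open MultSubLib (pc tw)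

section Groups

variable (N : Type) [AddCommGroup N] [AddGroup.FG N]

theorem exists_lev (l : ℕ) :
    ∃ k : MultSubLib.Kp.{u}, Nonempty (MultSubLib.NN k.down ≃+ (N ⧸ multiples N (fac l))) := by
  haveI := finite_quotient_multiples N (n := fac l) (Nat.factorial_pos _)
  obtain ⟨k, hk⟩ := MultSubLib.exists_idx (N ⧸ multiples N (fac l))
  exact ⟨⟨k⟩, hk⟩

/-- The isomorphism type of a finite level. -/
def lev (l : ℕ) : MultSubLib.Kp.{u} := (exists_lev.{u} N l).choose

/-- The reduction to a finite level. -/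
def lpi (l : ℕ) : Multiplicative N →* Multiplicative (MultSubLib.NN (lev.{u} N l).down) :=
  AddMonoidHom.toMultiplicative
    ((exists_lev.{u} N l).choose_spec.some.symm.toAddMonoidHom.comp (QuotientAddGroup.mk' (multiples N (fac l))))

theorem lpi_surjective (l : ℕ) : Function.Surjective (lpi.{u} N l) := fun m => by
  obtain ⟨x, hx⟩ := QuotientAddGroup.mk'_surjective (multiples N (fac l))
    ((exists_lev.{u} N l).choose_spec.some m.toAdd)
  refine ⟨Multiplicative.ofAdd x, ?_⟩
  show Multiplicative.ofAdd ((exists_lev.{u} N l).choose_spec.some.symm (QuotientAddGroup.mk' _ x)) = m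
  rw [hx, AddEquiv.symm_apply_apply]
  rfl

theorem exists_injOn_lpi (F : Finset (Multiplicative N)) :
    ∃ l, Set.InjOn (lpi.{u} N l) (F : Set (Multiplicative N)) := by
  obtain ⟨l, hl⟩ := exists_level_injOn (Multiplicative.toAdd '' (F : Set (Multiplicative N))) (F.finite_toSet.image _)
  refine ⟨l, fun a ha b hb e => Multiplicative.toAdd.injective (hl ⟨a, ha, rfl⟩ ⟨b, hb, rfl⟩ ?_)⟩
  exact (exists_lev.{u} N l).choose_spec.some.symm.injective (congrArg Multiplicative.toAdd e)

theorem exists_rho {l m : ℕ} (h : l ≤ m) :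
    ∃ ρ : Multiplicative (MultSubLib.NN (lev.{u} N m).down) →* Multiplicative (MultSubLib.NN (lev.{u} N l).down),
      ρ.comp (lpi.{u} N m) = lpi.{u} N l ∧ Function.Surjective ρ := by
  let e := (exists_lev.{u} N m).choose_spec.some
  let e' := (exists_lev.{u} N l).choose_spec.some
  let r : (N ⧸ multiples N (fac m)) →+ (N ⧸ multiples N (fac l)) :=
    QuotientAddGroup.map _ _ (AddMonoidHom.id N) (fun _ hx => multiples_anti (fac_dvd h) hx)
  let ρ := AddMonoidHom.toMultiplicative ((e'.symm.toAddMonoidHom.comp r).comp e.toAddMonoidHom)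
  have hρ : ρ.comp (lpi.{u} N m) = lpi.{u} N l := MonoidHom.ext fun x => by
    show Multiplicative.ofAdd (e'.symm (r (e (e.symm (QuotientAddGroup.mk' _ x.toAdd))))) = _
    rw [AddEquiv.apply_symm_apply]
    rfl
  refine ⟨ρ, hρ, fun y => ?_⟩
  obtain ⟨x, rfl⟩ := lpi_surjective.{u} N l y
  exact ⟨_, DFunLike.congr_fun hρ x⟩

end Groups

variable {S : Scheme.{u}} {G : Over S} [GrpObj G] [IsAffineHom G.hom] [Smooth G.hom]

theorem separated_piece {M : Type} [AddCommGroup M] [Finite M] (p' : MultSubLib.Piece G M) :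
    IsSeparated p'.P.hom := by
  obtain ⟨P2⟩ := nonempty_piece (G := G) M
  obtain ⟨a, ha, -⟩ := P2.univ p'.P p'.φ p'.hom p'.mono
  obtain ⟨b, hb, -⟩ := p'.univ P2.P P2.φ P2.hom P2.mono
  haveI : IsIso a := ⟨b, piece_hom_ext p' (by
    rw [whiskerLeft_comp_assoc, hb, ha, MonoidalCategory.whiskerLeft_id, Category.id_comp]), P2.hom_ext (by
    rw [whiskerLeft_comp_assoc, ha, hb, MonoidalCategory.whiskerLeft_id, Category.id_comp])⟩
  haveI := P2.separated
  rw [← Over.w a]
  exact (MorphismProperty.cancel_left_of_respectsIso @IsSeparated a.left _).2 inferInstance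

variable {N : Type} [AddCommGroup N] [AddGroup.FG N] (p : Piece G N)

/-- The restriction to a finite level. -/
def gl (l : ℕ) : p.P ⟶ (pc G (lev N l)).P := restr p _ (lpi_surjective N l)

theorem gl_comp (l : ℕ) {T : Over S} (a : T ⟶ p.P) :
    (Red.DS S (MultSubLib.NN (lev N l).down) ◁ (a ≫ gl p l)) ≫ (pc G (lev N l)).φ =
      tw (lpi N l) ((Red.DS S N ◁ a) ≫ p.φ) :=
  restr_comp p _ (lpi_surjective N l) a

theorem lft_gl (l : ℕ) : LocallyOfFiniteType (gl p l).left := by
  haveI := lfp_restr p (pc G (lev N l)) (lpi_surjective N l)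
  exact inferInstanceAs (LocallyOfFiniteType (restr p (pc G (lev N l)) (lpi_surjective N l)).left)

theorem exists_gl_factor {l m : ℕ} (h : l ≤ m) :
    ∃ r : (pc G (lev.{u} N m)).P ⟶ (pc G (lev.{u} N l)).P, gl p m ≫ r = gl p l := by
  obtain ⟨ρ, hρ, hs⟩ := exists_rho.{u} N h
  obtain ⟨r, hr, -⟩ := (pc G (lev.{u} N l)).univ _ _ (MultSubLib.isHomFamily_tw ρ (pc G (lev.{u} N m)).hom)
    (famMono_tw hs (pc G (lev.{u} N m)).mono)
  refine ⟨r, piece_hom_ext _ ?_⟩
  rw [whiskerLeft_comp_assoc, hr, MultSubLib.tw_natural]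
  erw [restr_spec p _ (lpi_surjective N m), restr_spec p _ (lpi_surjective N l)]
  rw [MultSubLib.tw_tw, hρ]

end MultSubFTLib
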