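import Groth.Agent.MultSubFTLib.Piece
import Groth.Agent.S5287

/-!
The locus where two families have the same image is closed.
-/

set_option autoImplicit false
set_option backward.isDefEq.respectTransparency false
set_option linter.style.haveILetI false
set_option synthInstance.maxHeartbeats 400000

noncomputable section

universe u

open CategoryTheory CategoryTheory.Limits MonoidalCategory CartesianMonoidalCategory AlgebraicGeometry
open scoped MonObj

attribute [-instance] CategoryTheory.Hom.commGroup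

namespace MultSubFTLib

open MultSubLib (FamMono Tri famTri)
open Groth.Agent.RedRank (homOf isMonHom_homOf comp_homOf proj pobj piso piso_hom_comp bcEquiv_lift)
open Groth.Agent.HomRep (bcEquiv)

variable {S : Scheme.{u}} {G H H' : Over S} [GrpObj G] [GrpObj H] [GrpObj H']

/-- Every point of the first family is one of the second. -/
def PtsLE {X : Over S} (φ : H ⊗ X ⟶ G) (φ' : H' ⊗ X ⟶ G) : Prop :=
  ∀ (Y : Over S) (t : Y ⟶ X) (h : Y ⟶ H), ∃ h' : Y ⟶ H', lift h' t ≫ φ' = lift h t ≫ φ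

theorem ptsLE_of_map {X : Over S} {φ : H ⊗ X ⟶ G} {φ' : H' ⊗ X ⟶ G} (e : (H ⊗ X).left ⟶ (H' ⊗ X).left)
    (h1 : e ≫ (snd H' X).left = (snd H X).left) (h2 : e ≫ φ'.left = φ.left) : PtsLE φ φ' := by
  let e' : H ⊗ X ⟶ H' ⊗ X := Over.homMk e (by
    rw [← Over.w φ', ← Category.assoc, h2]
    exact Over.w φ)
  have hs : e' ≫ snd H' X = snd H X := Over.OverMorphism.ext h1
  have hf : e' ≫ φ' = φ := Over.OverMorphism.ext h2
  intro Y t h
  refine ⟨lift h t ≫ e' ≫ fst H' X, ?_⟩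
  have h3 : lift (lift h t ≫ e' ≫ fst H' X) t = lift h t ≫ e' := by
    ext1 <;> simp [hs]
  rw [h3, Category.assoc, hf]

theorem exists_map_of_ptsLE {X : Over S} {φ : H ⊗ X ⟶ G} {φ' : H' ⊗ X ⟶ G} (h : PtsLE φ φ') :
    ∃ e : H ⊗ X ⟶ H' ⊗ X, e ≫ snd H' X = snd H X ∧ e ≫ φ' = φ := by
  obtain ⟨h', hh⟩ := h _ (snd H X) (fst H X)
  refine ⟨lift h' (snd H X), lift_snd _ _, ?_⟩
  rw [hh, lift_fst_snd, Category.id_comp]

theorem same_iff_ptsLE {X : Over S} (φ : H ⊗ X ⟶ G) (hφ : AutFam.IsHomFamily H G φ) (hm : FamMono φ)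
    (φ' : H' ⊗ X ⟶ G) (hφ' : AutFam.IsHomFamily H' G φ') (hm' : FamMono φ') :
    Tri.Same (famTri φ hφ hm) (famTri φ' hφ' hm') ↔ PtsLE φ φ' ∧ PtsLE φ' φ := by
  constructor
  · intro h
    obtain ⟨e, h1, h2⟩ := h.symm
    obtain ⟨e', h1', h2'⟩ := h
    exact ⟨ptsLE_of_map e'.hom h1' h2', ptsLE_of_map e.hom h1 h2⟩
  · rintro ⟨h, h'⟩
    obtain ⟨a, ha, ha'⟩ := exists_map_of_ptsLE h
    obtain ⟨b, hb, hb'⟩ := exists_map_of_ptsLE h'
    exact Tri.same_of_maps (A := famTri φ hφ hm) (B := famTri φ' hφ' hm') a.left (congrArg CommaMorphism.left ha)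
      (congrArg CommaMorphism.left ha') b.left (congrArg CommaMorphism.left hb) (congrArg CommaMorphism.left hb')

theorem ptsLE_iff_homOf {X : Over S} (φ : H ⊗ X ⟶ G) (φ' : H' ⊗ X ⟶ G) {T : Over S} (a : T ⟶ X) :
    PtsLE ((H ◁ a) ≫ φ) ((H' ◁ a) ≫ φ') ↔ ∀ (Z : Over X.left) (_ : Z ⟶ Over.mk a.left)
      (h₁ : Z ⟶ Red.bc X.hom H), ∃ h₂ : Z ⟶ Red.bc X.hom H', h₁ ≫ homOf φ = h₂ ≫ homOf φ' := by
  constructor
  · intro h Z x h₁
    let t : (Over.map X.hom).obj Z ⟶ T := Over.homMk x.left (by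
      rw [← Over.w a, ← Category.assoc]
      exact congrArg (· ≫ X.hom) (Over.w x))
    have ht : t ≫ a = proj X Z := Over.OverMorphism.ext (Over.w x)
    obtain ⟨h', hh⟩ := h _ t ((bcEquiv X.hom H Z).symm h₁)
    rw [lift_whiskerLeft_assoc, lift_whiskerLeft_assoc, ht] at hh
    refine ⟨bcEquiv X.hom H' Z h', ?_⟩
    rw [comp_homOf, comp_homOf, Equiv.symm_apply_apply, hh]
  · intro h Y t k
    obtain ⟨h₂, hh⟩ := h (pobj (t ≫ a)) (Over.homMk t.left rfl)
      (bcEquiv X.hom H _ ((piso (t ≫ a)).hom ≫ k))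
    refine ⟨(piso (t ≫ a)).inv ≫ (bcEquiv X.hom H' _).symm h₂, ?_⟩
    rw [lift_whiskerLeft_assoc, lift_whiskerLeft_assoc, ← cancel_epi (piso (t ≫ a)).hom]
    refine (bcEquiv X.hom G (pobj (t ≫ a))).injective ?_
    rw [bcEquiv_lift, bcEquiv_lift, Iso.hom_inv_id_assoc, Equiv.apply_symm_apply]
    exact hh.symm

/-- The locus where two families have the same image. -/
theorem exists_same_locus [IsAffineHom G.hom] [Smooth G.hom] (hH : SGA3x.IsMultTypeFT H)
    (hH' : SGA3x.IsMultTypeFT H') {X : Over S} (φ : H ⊗ X ⟶ G) (hφ : AutFam.IsHomFamily H G φ) (hm : FamMono φ)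
    (φ' : H' ⊗ X ⟶ G) (hφ' : AutFam.IsHomFamily H' G φ') (hm' : FamMono φ') :
    ∃ (Z : Over S) (i : Z ⟶ X), IsClosedImmersion i.left ∧ ∀ (T : Over S) (a : T ⟶ X),
      (∃ b : T ⟶ Z, b ≫ i = a) ↔
        Tri.Same (famTri ((H ◁ a) ≫ φ) (RepDescLib.isHomFamily_comp _ _ a hφ) (hm.comp a))
          (famTri ((H' ◁ a) ≫ φ') (RepDescLib.isHomFamily_comp _ _ a hφ') (hm'.comp a)) := by
  haveI := isMonHom_homOf hφ
  haveI := isMonHom_homOf hφ'
  haveI := mono_homOf hφ hm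
  haveI := mono_homOf hφ' hm'
  obtain ⟨TT, j, hj, -, hTT⟩ := Groth.Agent.S5287.result (Red.bc X.hom H) (Red.bc X.hom H') (Red.bc X.hom G)
    (Groth.Agent.DescHom.isMultTypeFT_bc hH X.hom) (Groth.Agent.DescHom.isMultTypeFT_bc hH' X.hom)
    (MorphismProperty.pullback_snd (P := @Smooth) _ _ inferInstance)
    (MorphismProperty.pullback_snd (P := @IsAffineHom) _ _ inferInstance) (homOf φ) (homOf φ')
  haveI := hj
  let one : 𝟙_ (Over X.left) ⟶ Red.bc X.hom G := 1
  let u₀ : X.left ⟶ (Red.bc X.hom G).left := one.left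
  have hu₀ : u₀ ≫ (Red.bc X.hom G).hom = 𝟙 X.left := Over.w one
  let i : Over.mk (pullback.snd j.left u₀ ≫ X.hom) ⟶ X := Over.homMk (pullback.snd j.left u₀) rfl
  refine ⟨_, i, inferInstanceAs (IsClosedImmersion (pullback.snd j.left u₀)), fun T a => ?_⟩
  let Xa : Over X.left := Over.mk a.left
  have h1 : (1 : Xa ⟶ Red.bc X.hom G).left = a.left ≫ u₀ := by
    rw [← MonObj.comp_one (toUnit Xa), Over.comp_left]
    exact congrArg (· ≫ u₀) ((Category.comp_id _).symm.trans (Over.w (toUnit Xa)))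
  have e : (∃ b : T ⟶ Over.mk (pullback.snd j.left u₀ ≫ X.hom), b ≫ i = a) ↔
      ∃ t : Xa ⟶ TT, t ≫ j = 1 := by
    constructor
    · rintro ⟨b, hb⟩
      have hb' : b.left ≫ pullback.snd j.left u₀ = a.left := congrArg CommaMorphism.left hb
      refine ⟨Over.homMk (b.left ≫ pullback.fst j.left u₀) ?_, Over.OverMorphism.ext ?_⟩
      · show (b.left ≫ pullback.fst j.left u₀) ≫ TT.hom = a.left
        rw [← Over.w j, Category.assoc, pullback.condition_assoc, hu₀, Category.comp_id, hb']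
      · show (b.left ≫ pullback.fst j.left u₀) ≫ j.left = _
        rw [h1, Category.assoc, pullback.condition, ← Category.assoc, hb']
    · rintro ⟨t, ht⟩
      have ht' : t.left ≫ j.left = a.left ≫ u₀ := (congrArg CommaMorphism.left ht).trans h1
      refine ⟨Over.homMk (pullback.lift t.left a.left ht') ?_, Over.OverMorphism.ext (pullback.lift_snd _ _ _)⟩
      show pullback.lift t.left a.left ht' ≫ pullback.snd j.left u₀ ≫ X.hom = T.hom
      rw [pullback.lift_snd_assoc, Over.w a]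
  rw [e, hTT Xa 1, same_iff_ptsLE, ptsLE_iff_homOf, ptsLE_iff_homOf]
  simp only [MonObj.comp_one, one_mul, inv_one, mul_one]
  exact ⟨fun h => ⟨fun Z x => (h Z x).1, fun Z x => (h Z x).2⟩, fun h Z x => ⟨h.1 Z x, h.2 Z x⟩⟩

end MultSubFTLib
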