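import Groth.Agent.MultSubFTLib.Index
import Groth.Agent.MultSubLib.Subgroup
import Groth.Agent.MultNhdLib.FamBC
import Groth.Agent.DescHomLib.MultBC
import Groth.Agent.S5246
import Groth.Agent.S6059
import Mathlib.AlgebraicGeometry.Morphisms.Smooth

/-!
The injective families of homomorphisms out of a diagonalisable group of finite type into a smooth affine group.
-/

set_option autoImplicit false
set_option backward.isDefEq.respectTransparency false
set_option linter.style.haveILetI false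
set_option synthInstance.maxHeartbeats 400000

noncomputable section

universe u

open CategoryTheory CategoryTheory.Limits MonoidalCategory CartesianMonoidalCategory AlgebraicGeometry
open scoped MonObj

attribute [-instance] CategoryTheory.Hom.commGroup

namespace MultSubFTLib

open Groth.Agent.RedRank (homOf isMonHom_homOf)
open MultSubLib (FamMono ptObj ptHom famMono_pt_of_famMono)

variable {S : Scheme.{u}} {H G : Over S} [GrpObj H] [GrpObj G]

theorem famMono_of_mono {T : Over S} {φ : H ⊗ T ⟶ G} (hφ : AutFam.IsHomFamily H G φ) [Mono (homOf φ)] :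
    FamMono φ := by
  haveI := isMonHom_homOf hφ
  intro Y t h e'
  have hi := (Groth.Agent.RedRank.ktriv_homOf_iff φ (𝟙 T.left)).1
    ((Groth.Agent.RedRank.mono_iff_ktriv_id _).1 inferInstance)
  have w : (t.left ≫ 𝟙 T.left) ≫ T.hom = Y.hom := by rw [Category.comp_id, Over.w t]
  exact hi Y t.left w h (by
    rw [show (Over.homMk (t.left ≫ 𝟙 T.left) w : Y ⟶ T) = t from Over.OverMorphism.ext (Category.comp_id _)]
    exact e')

theorem mono_homOf {T : Over S} {φ : H ⊗ T ⟶ G} (hφ : AutFam.IsHomFamily H G φ) (hm : FamMono φ) :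
    Mono (homOf φ) := by
  haveI := isMonHom_homOf hφ
  exact (Groth.Agent.RedRank.mono_iff_ktriv_id _).2
    ((Groth.Agent.RedRank.ktriv_homOf_iff φ _).2 fun Y q w h e => hm Y _ h e)

theorem famMono_whisker_iff {A T : Over S} {φ : H ⊗ A ⟶ G} (hφ : AutFam.IsHomFamily H G φ) (a : T ⟶ A) :
    FamMono ((H ◁ a) ≫ φ) ↔ Mono ((Over.pullback a.left).map (homOf φ)) := by
  have h := Groth.Agent.MultNhd.map_homOf φ a
  constructor
  · intro hm
    haveI := mono_homOf (RepDescLib.isHomFamily_comp H G a hφ) hm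
    rw [← Iso.eq_comp_inv] at h
    rw [h]
    infer_instance
  · intro hm
    rw [← Iso.inv_comp_eq] at h
    haveI : Mono (homOf ((H ◁ a) ≫ φ)) := by
      rw [← h]
      infer_instance
    exact famMono_of_mono (RepDescLib.isHomFamily_comp H G a hφ)

/-- The open locus of injective families. -/
theorem exists_mono_locus {A : Over S} (hH : SGA3x.IsMultTypeFT H) [IsSeparated G.hom]
    [LocallyOfFinitePresentation G.hom] (φ : H ⊗ A ⟶ G) (hφ : AutFam.IsHomFamily H G φ) :
    ∃ W : A.left.Opens, ∀ (T : Over S) (v : T ⟶ A), FamMono ((H ◁ v) ≫ φ) ↔ ∀ t, v.left t ∈ W := by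
  let W₀ : Set A.left := {x | FamMono ((H ◁ ptHom A x) ≫ φ)}
  haveI := isMonHom_homOf hφ
  haveI : IsSeparated (Red.bc A.hom G).hom := inferInstanceAs (IsSeparated (pullback.snd G.hom A.hom))
  haveI : LocallyOfFinitePresentation (Red.bc A.hom G).hom :=
    inferInstanceAs (LocallyOfFinitePresentation (pullback.snd G.hom A.hom))
  have hex : ∀ x : W₀, ∃ O : A.left.Opens, x.1 ∈ O ∧
      FamMono ((H ◁ (Over.homMk O.ι rfl : Over.mk (O.ι ≫ A.hom) ⟶ A)) ≫ φ) := fun x => by
    have hm : Mono ((Over.pullback (A.left.fromSpecResidueField x.1)).map (homOf φ)) :=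
      (famMono_whisker_iff hφ (ptHom A x.1)).1 x.2
    obtain ⟨O, hO, hOm⟩ := Groth.Agent.S6059.result (Red.bc A.hom H) (Red.bc A.hom G)
      (Groth.Agent.DescHom.isMultTypeFT_bc hH A.hom) (Or.inr inferInstance) (homOf φ) x.1
      (@Over.mono_left_of_mono _ _ _ _ _ _ hm)
    exact ⟨O, hO, (famMono_whisker_iff hφ _).2 ((Over.forget _).mono_of_mono_map
      (show Mono ((Over.pullback O.ι).map (homOf φ)).left from hOm))⟩
  choose O hO hOm using hex
  have hsub : ∀ (x : W₀), (O x : Set A.left) ⊆ W₀ := fun x y hy =>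
    famMono_pt_of_famMono (φ := φ) (Over.homMk (O x).ι rfl : Over.mk ((O x).ι ≫ A.hom) ⟶ A) (hOm x) ⟨y, hy⟩
  have hopen : IsOpen W₀ := isOpen_iff_forall_mem_open.2 fun x hx => ⟨O ⟨x, hx⟩, hsub _, (O _).2, hO ⟨x, hx⟩⟩
  refine ⟨⟨W₀, hopen⟩, fun T v => ⟨fun hm t => famMono_pt_of_famMono v hm t, fun hv => ?_⟩⟩
  let U : T.left → T.left.Opens := fun t => v.left ⁻¹ᵁ O ⟨v.left t, hv t⟩
  let T' : T.left → Over S := fun t => Over.mk ((U t).ι ≫ T.hom)
  let a : ∀ t, T' t ⟶ T := fun t => Over.homMk (U t).ι rfl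
  refine FamMono.of_cover a (fun t => inferInstanceAs (Flat (U t).ι))
    (fun t => ⟨t, ⟨t, hO ⟨v.left t, hv t⟩⟩, rfl⟩) fun t => ?_
  let b : T' t ⟶ Over.mk ((O ⟨v.left t, hv t⟩).ι ≫ A.hom) :=
    Over.homMk (v.left ∣_ O ⟨v.left t, hv t⟩) (by
      show (v.left ∣_ _) ≫ _ ≫ A.hom = (U t).ι ≫ T.hom
      rw [morphismRestrict_ι_assoc, Over.w v])
  have e : a t ≫ v = b ≫ (Over.homMk (O ⟨v.left t, hv t⟩).ι rfl : Over.mk ((O ⟨v.left t, hv t⟩).ι ≫ A.hom) ⟶ A) :=
    Over.OverMorphism.ext (morphismRestrict_ι _ _).symm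
  rw [← whiskerLeft_comp_assoc, e, whiskerLeft_comp_assoc]
  exact (hOm _).comp b

/-- The scheme of injective families. -/
structure Piece (G : Over S) [GrpObj G] (N : Type) [AddCommGroup N] where
  /-- the injective families -/
  P : Over S
  /-- the universal family -/
  φ : Red.DS S N ⊗ P ⟶ G
  hom : AutFam.IsHomFamily (Red.DS S N) G φ
  mono : FamMono φ
  univ : ∀ (T : Over S) (ψ : Red.DS S N ⊗ T ⟶ G), AutFam.IsHomFamily (Red.DS S N) G ψ → FamMono ψ →
    ∃! a : T ⟶ P, (Red.DS S N ◁ a) ≫ φ = ψ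
  smooth : Smooth P.hom
  separated : IsSeparated P.hom

theorem Piece.hom_ext {N : Type} [AddCommGroup N] (p : Piece G N) {T : Over S} {a b : T ⟶ p.P}
    (h : (Red.DS S N ◁ a) ≫ p.φ = (Red.DS S N ◁ b) ≫ p.φ) : a = b :=
  (p.univ T _ (RepDescLib.isHomFamily_comp _ _ b p.hom) (p.mono.comp b)).unique h rfl

theorem nonempty_piece (N : Type) [AddCommGroup N] [AddGroup.FG N] [IsAffineHom G.hom] [Smooth G.hom] :
    Nonempty (Piece G N) := by
  obtain ⟨A, υ, ⟨hυ, huniv⟩, hAs, hAsep⟩ :=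
    Groth.Agent.S5246.result (Red.DS S N) G (MultSubLib.isMultTypeFT_DS S N) inferInstance inferInstance
  haveI := hAs
  haveI := hAsep
  obtain ⟨W, hW⟩ := exists_mono_locus (MultSubLib.isMultTypeFT_DS S N) υ hυ
  let P : Over S := Over.mk (W.ι ≫ A.hom)
  let i : P ⟶ A := Over.homMk W.ι rfl
  haveI : Mono i := Over.mono_of_mono_left _
  let φ := (Red.DS S N ◁ i) ≫ υ
  refine ⟨⟨P, φ, RepDescLib.isHomFamily_comp _ _ i hυ, (hW P i).2 fun t => t.2, fun T ψ h1 h2 => ?_,
    inferInstanceAs (Smooth (W.ι ≫ A.hom)), inferInstanceAs (IsSeparated (W.ι ≫ A.hom))⟩⟩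
  obtain ⟨v, hv, hvu⟩ := huniv T ψ h1
  have hr : Set.range v.left ⊆ Set.range W.ι := by
    rw [Scheme.Opens.range_ι]
    rintro _ ⟨t, rfl⟩
    exact (hW T v).1 (by rw [hv]; exact h2) t
  have hfac : IsOpenImmersion.lift W.ι v.left hr ≫ W.ι = v.left := IsOpenImmersion.lift_fac _ _ _
  let a : T ⟶ P := Over.homMk (IsOpenImmersion.lift W.ι v.left hr) (by
    show _ ≫ W.ι ≫ A.hom = T.hom
    rw [← Category.assoc, hfac, Over.w v])
  have ha : a ≫ i = v := Over.OverMorphism.ext hfac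
  refine ⟨a, ?_, fun b hb => ?_⟩
  · show (Red.DS S N ◁ a) ≫ (Red.DS S N ◁ i) ≫ υ = ψ
    rw [← whiskerLeft_comp_assoc, ha, hv]
  · rw [← cancel_mono i, ha]
    refine hvu _ ?_
    show (Red.DS S N ◁ (b ≫ i)) ≫ υ = ψ
    rw [whiskerLeft_comp_assoc]
    exact hb

end MultSubFTLib
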