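import Groth.Agent.MultSubLib.Glue
import Mathlib.AlgebraicGeometry.Morphisms.Etale
import Mathlib.AlgebraicGeometry.Morphisms.LocalFlatDescent

/-!
The scheme of finite subgroups is etale-locally a scheme of injective families.
-/

set_option autoImplicit false
set_option backward.isDefEq.respectTransparency false
set_option linter.style.haveILetI false

noncomputable section

universe u

open CategoryTheory CategoryTheory.Limits MonoidalCategory CartesianMonoidalCategory AlgebraicGeometry
open scoped MonObj

namespace MultSubFTLib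

open MultSubLib (Piece Kp NN pc MM uu jM tw tw_natural)

variable {S : Scheme.{u}} {G : Over S} [GrpObj G] {N : Type} [AddCommGroup N]

theorem piece_hom_ext (p : Piece G N) {T : Over S} {a b : T ⟶ p.P}
    (h : (Red.DS S N ◁ a) ≫ p.φ = (Red.DS S N ◁ b) ≫ p.φ) : a = b :=
  (p.univ T _ (RepDescLib.isHomFamily_comp _ _ b p.hom) (p.mono.comp b)).unique h rfl

/-- The quotient map of a piece is etale. -/
theorem etale_q (p : Piece G N) : Etale p.q.left := by
  haveI := p.fpqc
  haveI := p.quasiCompact
  let R : Over S := Over.mk (pullback.fst p.q.left p.q.left ≫ p.P.hom)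
  let r₁ : R ⟶ p.P := Over.homMk (pullback.fst p.q.left p.q.left) rfl
  let r₂ : R ⟶ p.P := Over.homMk (pullback.snd p.q.left p.q.left) (by
    show pullback.snd p.q.left p.q.left ≫ p.P.hom = pullback.fst p.q.left p.q.left ≫ p.P.hom
    rw [← Over.w p.q, pullback.condition_assoc])
  have hr : r₁ ≫ p.q = r₂ ≫ p.q := Over.OverMorphism.ext pullback.condition
  suffices h : Etale (pullback.fst p.q.left p.q.left) from
    MorphismProperty.of_pullback_fst_of_descendsAlong (P := @Etale)
      (Q := @Surjective ⊓ @Flat ⊓ @QuasiCompact) (f := p.q.left) (g := p.q.left)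
      ⟨⟨inferInstance, inferInstance⟩, inferInstance⟩ h
  choose U j hj hz σ hσ using p.ker r₁ r₂ hr
  choose act hact _ using fun σ : Multiplicative N ≃* Multiplicative N =>
    p.univ p.P (tw σ.toMonoidHom p.φ) (MultSubLib.isHomFamily_tw _ p.hom) (p.mono.tw_equiv σ)
  let V : R.left → R.left.Opens := fun z => haveI := hj z; (j z).left.opensRange
  refine (IsZariskiLocalAtSource.iff_of_iSup_eq_top (P := @Etale) (U := V) ?_).2 fun z => ?_
  · exact eq_top_iff.2 fun z _ => TopologicalSpace.Opens.mem_iSup.2 ⟨z, hz z⟩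
  haveI := hj z
  have hj2 : j z ≫ r₂ = (j z ≫ r₁) ≫ act (σ z) := piece_hom_ext p (by
    rw [hσ z, whiskerLeft_comp_assoc (Red.DS S N) (j z ≫ r₁), hact, tw_natural])
  have hq : act (σ z) ≫ p.q = p.q := by
    have h1 := p.inv (σ z) (𝟙 p.P) (act (σ z)) (by
      rw [hact, MonoidalCategory.whiskerLeft_id, Category.id_comp])
    rw [Category.id_comp] at h1
    exact h1.symm
  let s : p.P.left ⟶ pullback p.q.left p.q.left :=
    pullback.lift (𝟙 _) (act (σ z)).left (by rw [Category.id_comp, ← Over.comp_left, hq])
  have hs : ((j z).left ≫ pullback.fst p.q.left p.q.left) ≫ s = (j z).left := by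
    refine pullback.hom_ext ?_ ?_
    · rw [Category.assoc, pullback.lift_fst, Category.comp_id]
    · rw [Category.assoc, pullback.lift_snd]
      exact (congrArg CommaMorphism.left hj2).symm
  let W : p.P.left.Opens := s ⁻¹ᵁ (j z).left.opensRange
  let f : (U z).left ⟶ p.P.left := (j z).left ≫ pullback.fst p.q.left p.q.left
  have hfW : Set.range f ⊆ Set.range W.ι := by
    rw [Scheme.Opens.range_ι]
    rintro _ ⟨x, rfl⟩
    refine ⟨x, ?_⟩
    exact (congrArg (fun k : (U z).left ⟶ R.left => k x) hs).symm
  let back : (W : Scheme.{u}) ⟶ (U z).left := IsOpenImmersion.lift (j z).left (W.ι ≫ s) (by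
    rintro _ ⟨w, rfl⟩
    exact w.2)
  have hback : back ≫ (j z).left = W.ι ≫ s := IsOpenImmersion.lift_fac _ _ _
  let e : (U z).left ≅ (W : Scheme.{u}) :=
    { hom := IsOpenImmersion.lift W.ι f hfW
      inv := back
      hom_inv_id := by
        rw [← cancel_mono (j z).left, Category.assoc, hback, IsOpenImmersion.lift_fac_assoc, hs, Category.id_comp]
      inv_hom_id := by
        rw [← cancel_mono W.ι, Category.assoc, IsOpenImmersion.lift_fac, Category.id_comp]
        show back ≫ (j z).left ≫ pullback.fst p.q.left p.q.left = W.ι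
        rw [← Category.assoc, hback, Category.assoc, pullback.lift_fst, Category.comp_id] }
  have hf : f = e.hom ≫ W.ι := (IsOpenImmersion.lift_fac _ _ _).symm
  haveI : IsIso e.hom := ⟨e.inv, e.hom_inv_id, e.inv_hom_id⟩
  haveI : IsOpenImmersion e.hom := IsOpenImmersion.of_isIso e.hom
  haveI : IsOpenImmersion (e.hom ≫ W.ι) := IsOpenImmersion.comp _ _
  have h1 : Etale ((j z).left.isoOpensRange.inv ≫ f) := by
    rw [hf]
    haveI : Etale (e.hom ≫ W.ι) := inferInstance
    infer_instance
  rwa [← Scheme.Hom.isoOpensRange_inv_comp (j z).left, Category.assoc]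

theorem etale_uu [IsAffineHom G.hom] [LocallyOfFinitePresentation G.hom] (k : Kp.{u}) : Etale (uu G k).left := by
  haveI := etale_q (pc G k)
  haveI := MultSubLib.isOpenImmersion_jM (G := G) k
  exact inferInstanceAs (Etale ((pc G k).q.left ≫ (jM G k).left))

end MultSubFTLib
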