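import Groth.Agent.MultSubFTLib.Piece
import Groth.Agent.MultSubFTLib.QEtale
import Groth.Agent.MultSubFTLib.Conj
import Groth.Agent.SqLiftLib.Smooth
import Groth.Agent.TorsTupleLib.SmoothCrit
import Groth.Agent.AlgSpLib.FlatEq

/-!
Restriction of injective families to a quotient of the characters.
-/

set_option autoImplicit false
set_option backward.isDefEq.respectTransparency false
set_option linter.style.haveILetI false
set_option synthInstance.maxHeartbeats 400000

noncomputable section

universe u

open CategoryTheory CategoryTheory.Limits MonoidalCategory CartesianMonoidalCategory AlgebraicGeometry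
open scoped MonObj

attribute [-instance] CategoryTheory.Hom.commGroup

namespace MultSubFTLib

open MultSubLib (FamMono tw lift_tw tw_natural isHomFamily_tw dd)

variable {S : Scheme.{u}} {G : Over S} [GrpObj G] {N M : Type} [AddCommGroup N] [AddCommGroup M]

theorem famMono_tw {π : Multiplicative N →* Multiplicative M} (hπ : Function.Surjective π) {T : Over S}
    {φ : Red.DS S N ⊗ T ⟶ G} (hm : FamMono φ) : FamMono (tw π φ) := by
  intro Y t h e
  rw [lift_tw] at e
  have h1 := congrArg MultSubLib.chars (hm Y t _ e)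
  rw [MultSubLib.chars_comp_dd, MultSubLib.chars_one] at h1
  refine MultSubLib.chars_injective (MonoidHom.ext fun m => ?_)
  obtain ⟨n, rfl⟩ := hπ m
  rw [MultSubLib.chars_one]
  exact DFunLike.congr_fun h1 n

theorem lift_tw_conjFam {π : Multiplicative N →* Multiplicative M} {T : Over S} (g : T ⟶ G) (φ : Red.DS S N ⊗ T ⟶ G) {Y : Over S} (h : Y ⟶ Red.DS S M)
    (t : Y ⟶ T) : lift h t ≫ tw π (conjFam g φ) = lift h t ≫ conjFam g (tw π φ) := by
  rw [lift_tw, lift_conjFam, lift_conjFam, lift_tw]

theorem lft_piece [Finite M] [IsAffineHom G.hom] [Smooth G.hom] (p' : MultSubLib.Piece G M) : LocallyOfFiniteType p'.P.hom := by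
  haveI := p'.lfp
  haveI := p'.lfp_q
  haveI : LocallyOfFinitePresentation p'.P.hom := by
    rw [← Over.w p'.q]
    infer_instance
  infer_instance

variable (p : Piece G N) (p' : MultSubLib.Piece G M) {π : Multiplicative N →* Multiplicative M}
  (hπ : Function.Surjective π)

include hπ

theorem exists_restr : ∃ a : p.P ⟶ p'.P, (Red.DS S M ◁ a) ≫ p'.φ = tw π p.φ :=
  (p'.univ p.P _ (isHomFamily_tw π p.hom) (famMono_tw hπ p.mono)).exists

/-- The restriction of the universal family. -/
def restr : p.P ⟶ p'.P := (exists_restr p p' hπ).choose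

theorem restr_spec : (Red.DS S M ◁ restr p p' hπ) ≫ p'.φ = tw π p.φ := (exists_restr p p' hπ).choose_spec

theorem restr_comp {T : Over S} (a : T ⟶ p.P) :
    (Red.DS S M ◁ (a ≫ restr p p' hπ)) ≫ p'.φ = tw π ((Red.DS S N ◁ a) ≫ p.φ) := by
  rw [whiskerLeft_comp_assoc, restr_spec, tw_natural]

theorem separated_restr : IsSeparated (restr p p' hπ).left := by
  haveI : IsSeparated ((restr p p' hπ).left ≫ p'.P.hom) := by
    rw [Over.w (restr p p' hπ)]
    exact p.separated
  exact IsSeparated.of_comp (restr p p' hπ).left p'.P.hom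

variable [Finite M] [IsAffineHom G.hom] [Smooth G.hom]

theorem lfp_restr : LocallyOfFinitePresentation (restr p p' hπ).left := by
  haveI := lft_piece p'
  haveI := p.smooth
  haveI : LocallyOfFinitePresentation ((restr p p' hπ).left ≫ p'.P.hom) := by
    rw [Over.w (restr p p' hπ)]
    infer_instance
  exact AlgSpLib.lfp_of_comp_lft (restr p p' hπ).left p'.P.hom

theorem smooth_restr [AddGroup.FG N] : Smooth (restr p p' hπ).left := by
  haveI := lfp_restr p p' hπ
  haveI := p.smooth
  refine Groth.Agent.TorsTuple.smooth_of_lifts _ fun y => ⟨⊤, trivial, fun C _ I hI pC _ τ hτ => ?_⟩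
  let T : Over S := Over.mk (pC ≫ p'.P.hom)
  let mkI : Spec (CommRingCat.of (C ⧸ I)) ⟶ Spec (CommRingCat.of C) := Spec.map (CommRingCat.ofHom (Ideal.Quotient.mk I))
  let a : Over.mk (mkI ≫ pC ≫ p'.P.hom) ⟶ T := Over.homMk mkI rfl
  let v : T ⟶ p'.P := Over.homMk pC rfl
  let X : Over (Spec (CommRingCat.of C)) := Red.bc T.hom p.P
  haveI : Smooth X.hom := MorphismProperty.pullback_snd (P := @Smooth) _ _ p.smooth
  let s₀ : Groth.Agent.SqLift.S₀ I ⟶ X := Over.homMk (pullback.lift τ mkI (by
    rw [← Over.w (restr p p' hπ), ← Category.assoc, hτ, Category.assoc]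
    rfl)) (pullback.lift_snd _ _ _)
  obtain ⟨s, hs⟩ := Groth.Agent.SqLift.exists_lift_sq hI s₀
  let u : T ⟶ p.P := Over.homMk (s.left ≫ pullback.fst p.P.hom T.hom) (by
    rw [Category.assoc, pullback.condition, ← Category.assoc]
    exact (congrArg (· ≫ T.hom) (Over.w s)).trans (Category.id_comp _))
  have hu : a.left ≫ u.left = τ := by
    have h1 := congrArg (fun m : Groth.Agent.SqLift.S₀ I ⟶ X => m.left ≫ pullback.fst p.P.hom T.hom) hs
    have hu' : (toUnit (Groth.Agent.SqLift.S₀ I)).left = mkI :=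
      (Category.comp_id _).symm.trans (Over.w (toUnit (Groth.Agent.SqLift.S₀ I)))
    simp only [Over.comp_left, Category.assoc, hu'] at h1
    exact h1.trans (pullback.lift_fst _ _ _)
  let φu := (Red.DS S N ◁ u) ≫ p.φ
  have hφu : AutFam.IsHomFamily (Red.DS S N) G φu := RepDescLib.isHomFamily_comp _ _ u p.hom
  obtain ⟨g, hg1, hg⟩ := exists_conj_families (H := Red.DS S M) (MultSubLib.isMultTypeFT_DS S M) I ⟨2, hI⟩ (pC ≫ p'.P.hom)
    (ψ := tw π φu) (ψ' := (Red.DS S M ◁ v) ≫ p'.φ) (isHomFamily_tw π hφu)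
    (RepDescLib.isHomFamily_comp _ _ v p'.hom) a rfl (by
      have e : a ≫ u ≫ restr p p' hπ = a ≫ v := Over.OverMorphism.ext (by
        show a.left ≫ u.left ≫ (restr p p' hπ).left = mkI ≫ pC
        exact (Category.assoc _ _ _).symm.trans ((congrArg (· ≫ (restr p p' hπ).left) hu).trans hτ))
      rw [← restr_comp p p' hπ u, ← whiskerLeft_comp_assoc, e, whiskerLeft_comp_assoc])
  obtain ⟨u', hu', -⟩ := p.univ T (conjFam g φu) (isHomFamily_conjFam g hφu) (famMono_conjFam g (p.mono.comp u))
  refine ⟨u'.left, ?_, ?_⟩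
  · have e : a ≫ u' = a ≫ u := p.hom_ext (by
      rw [whiskerLeft_comp_assoc, hu', whiskerLeft_comp_assoc]
      refine (Category.id_comp _).symm.trans (Eq.trans ?_ (Category.id_comp _))
      rw [← lift_fst_snd, lift_whiskerLeft_assoc, lift_whiskerLeft_assoc, lift_conjFam, Category.assoc, hg1,
        MonObj.comp_one, one_mul, inv_one, mul_one])
    rw [← hu]
    exact congrArg CommaMorphism.left e
  · have e : u' ≫ restr p p' hπ = v := piece_hom_ext p' (by
      rw [restr_comp, hu']
      refine (Category.id_comp _).symm.trans (Eq.trans ?_ (Category.id_comp _))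
      rw [← lift_fst_snd, lift_tw_conjFam, hg])
    exact congrArg CommaMorphism.left e

end MultSubFTLib
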