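import Groth.Agent.MultSubFTLib.Unram
import Groth.Agent.MultSubFTLib.Locus

/-!
Points of a piece with the same subgroup.
-/

set_option autoImplicit false
set_option backward.isDefEq.respectTransparency false
set_option linter.style.haveILetI false
set_option synthInstance.maxHeartbeats 400000

noncomputable section

universe u

open CategoryTheory CategoryTheory.Limits MonoidalCategory CartesianMonoidalCategory AlgebraicGeometry
open scoped MonObj

attribute [-instance] CategoryTheory.Hom.commGroup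

namespace MultSubFTLib

open MultSubLib (pc tw lift_tw dd Tri famTri uu MM)

variable {S : Scheme.{u}} {G : Over S} [GrpObj G] {N : Type} [AddCommGroup N] (p : Piece G N)

/-- The subscheme of a point. -/
def fT {X : Over S} (x : X ⟶ p.P) : Tri G.left X.left :=
  famTri ((Red.DS S N ◁ x) ≫ p.φ) (RepDescLib.isHomFamily_comp _ _ x p.hom) (p.mono.comp x)

theorem fT_pull {X : Over S} (x : X ⟶ p.P) : Tri.Same (fT p x) ((famTri p.φ p.hom p.mono).pull x.left) :=
  MultSubLib.famTri_pull _ p.hom p.mono x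

theorem fT_comp {X X' : Over S} (x : X ⟶ p.P) (a : X' ⟶ X) :
    Tri.Same (fT p (a ≫ x)) ((fT p x).pull a.left) :=
  (fT_pull p (a ≫ x)).trans (((Tri.pull_pull _ _ _).symm).trans ((fT_pull p x).symm.pull a.left))

/-- Two points have the same subgroup. -/
def SameP {X : Over S} (x y : X ⟶ p.P) : Prop := Tri.Same (fT p x) (fT p y)

theorem equivalence_sameP {X : Over S} {V : Over S} (j : V ⟶ p.P) :
    Equivalence fun a b : X ⟶ V => SameP p (a ≫ j) (b ≫ j) :=
  ⟨fun _ => Tri.Same.refl _, fun h => h.symm, fun h h' => h.trans h'⟩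

theorem SameP.comp {p : Piece G N} {X X' : Over S} {x y : X ⟶ p.P} (h : SameP p x y) (a : X' ⟶ X) :
    SameP p (a ≫ x) (a ≫ y) :=
  (fT_comp p x a).trans ((h.pull a.left).trans (fT_comp p y a).symm)

theorem sameP_of_cover {X : Over S} {x y : X ⟶ p.P} {I : Type u} {U : I → Over S} (j : ∀ i, U i ⟶ X)
    (hj : ∀ i, IsOpenImmersion (j i).left) (hcov : ∀ t, ∃ i, t ∈ Set.range (j i).left)
    (h : ∀ i, SameP p (j i ≫ x) (j i ≫ y)) : SameP p x y :=
  Tri.same_of_openCover (fun i => (j i).left) hj hcov fun i =>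
    (fT_comp p x (j i)).symm.trans ((h i).trans (fT_comp p y (j i)))

/-- An automorphism of the characters acts on a piece. -/
def act (α : Multiplicative N ≃* Multiplicative N) : p.P ⟶ p.P :=
  (p.univ p.P _ (MultSubLib.isHomFamily_tw α.toMonoidHom p.hom) (p.mono.tw_equiv α)).exists.choose

theorem act_spec (α : Multiplicative N ≃* Multiplicative N) :
    (Red.DS S N ◁ act p α) ≫ p.φ = tw α.toMonoidHom p.φ :=
  (p.univ p.P _ (MultSubLib.isHomFamily_tw α.toMonoidHom p.hom) (p.mono.tw_equiv α)).exists.choose_spec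

theorem sameP_act (α : Multiplicative N ≃* Multiplicative N) {X : Over S} (x : X ⟶ p.P) :
    SameP p (x ≫ act p α) x := by
  refine (same_iff_ptsLE _ _ _ _ _ _).2 ⟨fun Y t h => ⟨h ≫ dd S α.toMonoidHom, ?_⟩,
    fun Y t h => ⟨h ≫ dd S α.symm.toMonoidHom, ?_⟩⟩
  · rw [whiskerLeft_comp_assoc (Red.DS S N) x, act_spec, MultSubLib.tw_natural, lift_tw]
  · rw [whiskerLeft_comp_assoc (Red.DS S N) x, act_spec, MultSubLib.tw_natural, lift_tw, Category.assoc,
      MultSubLib.dd_comp_dd, show α.symm.toMonoidHom.comp α.toMonoidHom = MonoidHom.id _ from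
        MonoidHom.ext fun m => α.symm_apply_apply m, MultSubLib.dd_id, Category.comp_id]

theorem exists_local_act [AddGroup.FG N] {X : Over S} {x y : X ⟶ p.P} (h : SameP p x y) (z : X.left) :
    ∃ (U : Over S) (j : U ⟶ X), IsOpenImmersion j.left ∧ z ∈ Set.range j.left ∧
      ∃ α : Multiplicative N ≃* Multiplicative N, j ≫ x = (j ≫ y) ≫ act p α := by
  obtain ⟨U, j, hj, hz, α, hα⟩ := MultSubLib.exists_local_iso (RepDescLib.isHomFamily_comp _ _ x p.hom)
    (p.mono.comp x) (RepDescLib.isHomFamily_comp _ _ y p.hom) (p.mono.comp y) h z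
  refine ⟨U, j, hj, hz, α, p.hom_ext ?_⟩
  rw [whiskerLeft_comp_assoc, whiskerLeft_comp_assoc (Red.DS S N) (j ≫ y), act_spec, MultSubLib.tw_natural,
    whiskerLeft_comp_assoc, hα]

variable [AddGroup.FG N]

theorem exists_aut_lev (α : Multiplicative N ≃* Multiplicative N) (l : ℕ) :
    ∃ β : Multiplicative (MultSubLib.NN (lev.{u} N l).down) ≃* Multiplicative (MultSubLib.NN (lev.{u} N l).down),
      β.toMonoidHom.comp (lpi.{u} N l) = (lpi.{u} N l).comp α.toMonoidHom := by
  let e := (exists_lev.{u} N l).choose_spec.some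
  let a : N ≃+ N := AddEquiv.toMultiplicative.symm α
  let b : (N ⧸ multiples N (fac l)) ≃+ (N ⧸ multiples N (fac l)) := QuotientAddGroup.congr _ _ a (by
    ext x
    constructor
    · rintro ⟨_, ⟨y, rfl⟩, rfl⟩
      exact ⟨a y, (map_nsmul a (fac l) y).symm⟩
    · rintro ⟨y, rfl⟩
      exact ⟨fac l • a.symm y, ⟨a.symm y, rfl⟩, by
        show a (fac l • a.symm y) = fac l • y
        rw [map_nsmul, AddEquiv.apply_symm_apply]⟩)
  refine ⟨AddEquiv.toMultiplicative ((e.trans b).trans e.symm), MonoidHom.ext fun x => ?_⟩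
  show Multiplicative.ofAdd (e.symm (b (e (e.symm (QuotientAddGroup.mk' _ x.toAdd))))) = _
  rw [AddEquiv.apply_symm_apply]
  rfl

variable [IsAffineHom G.hom] [Smooth G.hom]

/-- The subgroup of the finite level. -/
def gg (l : ℕ) : p.P ⟶ MM G := gl p l ≫ uu G (lev N l)

theorem act_gg (α : Multiplicative N ≃* Multiplicative N) (l : ℕ) : act p α ≫ gg p l = gg p l := by
  obtain ⟨β, hβ⟩ := exists_aut_lev.{u} α l
  have h := (pc G (lev.{u} N l)).inv β (gl p l) (act p α ≫ gl p l) (by
    rw [gl_comp, act_spec, MultSubLib.tw_tw, ← hβ, ← MultSubLib.tw_tw]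
    refine congrArg (tw β.toMonoidHom) ?_
    exact (restr_spec p _ (lpi_surjective N l)).symm)
  show act p α ≫ gl p l ≫ (pc G (lev N l)).q ≫ MultSubLib.jM G (lev N l) = gl p l ≫ (pc G (lev N l)).q ≫ MultSubLib.jM G (lev N l)
  rw [← Category.assoc (act p α), ← Category.assoc (act p α ≫ gl p l), ← h, Category.assoc]

theorem gg_eq_of_sameP {X : Over S} {x y : X ⟶ p.P} (h : SameP p x y) (l : ℕ) : x ≫ gg p l = y ≫ gg p l := by
  choose U j hj hz α hα using exists_local_act p h
  refine MultSubLib.hom_ext_flat_cover j (fun z => by haveI := hj z; infer_instance) (fun z => ⟨z, hz z⟩) fun z => ?_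
  rw [← Category.assoc, hα z, Category.assoc, act_gg, Category.assoc]

theorem exists_closed_sameP {X : Over S} (x y : X ⟶ p.P) :
    ∃ (Z : Over S) (i : Z ⟶ X), IsClosedImmersion i.left ∧ ∀ (T : Over S) (a : T ⟶ X),
      (∃ b : T ⟶ Z, b ≫ i = a) ↔ SameP p (a ≫ x) (a ≫ y) := by
  obtain ⟨Z, i, hi, hZ⟩ := exists_same_locus (MultSubLib.isMultTypeFT_DS S N) (MultSubLib.isMultTypeFT_DS S N)
    ((Red.DS S N ◁ x) ≫ p.φ) (RepDescLib.isHomFamily_comp _ _ x p.hom) (p.mono.comp x)
    ((Red.DS S N ◁ y) ≫ p.φ) (RepDescLib.isHomFamily_comp _ _ y p.hom) (p.mono.comp y)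
  refine ⟨Z, i, hi, fun T a => (hZ T a).trans ?_⟩
  have e1 := MultSubLib.famTri_congr (whiskerLeft_comp_assoc (Red.DS S N) a x p.φ).symm
    (RepDescLib.isHomFamily_comp _ _ a (RepDescLib.isHomFamily_comp _ _ x p.hom)) ((p.mono.comp x).comp a)
    (RepDescLib.isHomFamily_comp _ _ (a ≫ x) p.hom) (p.mono.comp (a ≫ x))
  have e2 := MultSubLib.famTri_congr (whiskerLeft_comp_assoc (Red.DS S N) a y p.φ).symm
    (RepDescLib.isHomFamily_comp _ _ a (RepDescLib.isHomFamily_comp _ _ y p.hom)) ((p.mono.comp y).comp a)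
    (RepDescLib.isHomFamily_comp _ _ (a ≫ y) p.hom) (p.mono.comp (a ≫ y))
  exact ⟨fun h => e1.symm.trans (h.trans e2), fun h => e1.trans (h.trans e2.symm)⟩

end MultSubFTLib
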