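import Groth.Agent.MultSubFTLib.Glue
import Groth.Agent.RedRankLib.SubDescent
import Groth.Agent.MultHomLib.FinGlobal
import Groth.Agent.RepDescLib.DualConst
import Groth.Agent.HomRepLib.Descent

/-!
The universal subgroup of multiplicative type and its universal property.
-/

set_option autoImplicit false
set_option backward.isDefEq.respectTransparency false
set_option linter.style.haveILetI false
set_option synthInstance.maxHeartbeats 400000

noncomputable section

universe u

open CategoryTheory CategoryTheory.Limits MonoidalCategory CartesianMonoidalCategory AlgebraicGeometry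
open scoped MonObj

attribute [-instance] CategoryTheory.Hom.commGroup

namespace MultSubFTLib

open MultSubLib (Tri famTri FamMono bc2_ext bcEquiv_left_fst bcEquiv_symm_left homOf_left_fst famTri_congr dd dd_comp_dd dd_id hom_ext_flat_cover hom_descend_family)
open Groth.Agent.RedRank (homOf isMonHom_homOf exists_homOf_eq isHomFamily_of_isMonHom LocIn)
open Groth.Agent.HomRep (bcEquiv)

theorem isAffineHom_DS (S : Scheme.{u}) (M : Type) [AddCommGroup M] : IsAffineHom (Red.DS S M).hom :=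
  MorphismProperty.pullback_snd (P := @IsAffineHom) _ _
    (inferInstanceAs (IsAffineHom (Spec.map _)))

variable {S : Scheme.{u}} (G : Over S) [GrpObj G] [IsAffineHom G.hom] [Smooth G.hom]

/-- The base change along the family of a piece. -/
def cmpIso (k : Kp.{u}) : Red.bc (uu G k).left (Red.bc (MM G).hom G) ≅ Red.bc (pc G k).P.hom G :=
  ActBC.bcCompIso _ _ G (uu_comp G k)

theorem cmpIso_inv_left_fst (k : Kp.{u}) :
    (cmpIso G k).inv.left ≫ pullback.fst (Red.bc (MM G).hom G).hom (uu G k).left ≫ pullback.fst G.hom (MM G).hom =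
      pullback.fst G.hom (pc G k).P.hom := by
  rw [← ActBC.bcCompIso_hom_left_fst (uu G k).left (MM G).hom G (uu_comp G k), ← Category.assoc, ← Over.comp_left]
  show ((cmpIso G k).inv ≫ (cmpIso G k).hom).left ≫ _ = _
  rw [Iso.inv_hom_id, Over.id_left, Category.id_comp]

/-- The universal subgroup over the families of a piece. -/
def jP (k : Kp.{u}) : Red.bc (pc G k).P.hom (Red.DS S (NN k.down)) ⟶ Red.bc (uu G k).left (Red.bc (MM G).hom G) :=
  homOf (pc G k).φ ≫ (cmpIso G k).inv

theorem isMonHom_jP (k : Kp.{u}) : IsMonHom (jP G k) := by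
  haveI := isMonHom_homOf (pc G k).hom
  haveI : IsMonHom (cmpIso G k).hom := ActBC.bcCompIso_isMonHom _ _ _
  haveI : IsMonHom (cmpIso G k).inv := inferInstance
  exact inferInstanceAs (IsMonHom (homOf (pc G k).φ ≫ (cmpIso G k).inv))

theorem mono_jP (k : Kp.{u}) : Mono (jP G k) := by
  haveI := mono_homOf (pc G k).hom (pc G k).mono
  exact inferInstanceAs (Mono (homOf (pc G k).φ ≫ (cmpIso G k).inv))

theorem jP_left_fst (k : Kp.{u}) :
    (jP G k).left ≫ pullback.fst (Red.bc (MM G).hom G).hom (uu G k).left ≫ pullback.fst G.hom (MM G).hom =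
      (pc G k).φ.left := by
  refine (Category.assoc _ _ _).trans ((congrArg ((homOf (pc G k).φ).left ≫ ·) (cmpIso_inv_left_fst G k)).trans ?_)
  exact homOf_left_fst _

theorem locIn_jP (k l : Kp.{u}) :
    LocIn (uu G l).left (Red.bc (MM G).hom G) (jP G l)
      ((bcEquiv (uu G k).left (Red.bc (MM G).hom G) _).symm (jP G k)) := by
  intro Z z
  let K := (VP G k).K
  let X : Over S := Over.mk (Z.hom ≫ (pc G l).P.hom)
  let y : X ⟶ (pc G l).P := Over.homMk Z.hom rfl
  have hz : (z.left ≫ (VP G k).k) ≫ (uu G k).left = Z.hom ≫ (uu G l).left :=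
    (Category.assoc _ _ _).trans (Over.w z)
  let x : X ⟶ (pc G k).P := Over.homMk (z.left ≫ (VP G k).k) (by
    show (z.left ≫ (VP G k).k) ≫ (pc G k).P.hom = Z.hom ≫ (pc G l).P.hom
    exact (congrArg ((z.left ≫ (VP G k).k) ≫ ·) (uu_comp G k).symm).trans ((Category.assoc _ _ _).symm.trans
      ((congrArg (· ≫ (MM G).hom) hz).trans ((Category.assoc _ _ _).trans (congrArg (Z.hom ≫ ·) (uu_comp G l))))))
  obtain ⟨e, he1, he2⟩ := (fT_pull (pc G k) x).symm.trans
    ((same_of_uu_eq x y (Over.OverMorphism.ext hz)).trans (fT_pull (pc G l) y))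
  let s : Z.left ⟶ ((VP G k).pull x.left).K := pullback.lift z.left (𝟙 _) (Category.id_comp _).symm
  have hs : (s ≫ e.hom) ≫ ((VP G l).pull y.left).k = 𝟙 _ :=
    (Category.assoc _ _ _).trans ((congrArg (s ≫ ·) he1).trans (pullback.lift_snd _ _ _))
  have hs' : (s ≫ e.hom) ≫ ((VP G l).pull y.left).c = z.left ≫ (VP G k).c := by
    refine (Category.assoc _ _ _).trans ((congrArg (s ≫ ·) he2).trans ?_)
    exact pullback.lift_fst_assoc _ _ _ _
  let a₀ : Z.left ⟶ (VP G l).K := (s ≫ e.hom) ≫ pullback.fst (VP G l).k y.left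
  have ha : a₀ ≫ (VP G l).k = Z.hom :=
    (Category.assoc _ _ _).trans ((congrArg ((s ≫ e.hom) ≫ ·) pullback.condition).trans
      ((Category.assoc _ _ _).symm.trans ((congrArg (· ≫ y.left) hs).trans (Category.id_comp _))))
  refine ⟨Over.homMk a₀ ha, bc2_ext (MM G).hom (uu G l).left G ?_⟩
  refine (Category.assoc _ _ _).trans ((congrArg (a₀ ≫ ·) (jP_left_fst G l)).trans ?_)
  refine ((Category.assoc _ _ _).trans hs').trans ?_
  rw [← Category.assoc _ (pullback.fst (Red.bc (MM G).hom G).hom (uu G l).left), bcEquiv_left_fst]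
  show z.left ≫ (pc G k).φ.left = (z.left ≫ _) ≫ _
  refine (congrArg (z.left ≫ ·) ?_).trans (Category.assoc _ _ _).symm
  refine Eq.trans ?_ (congrArg (· ≫ pullback.fst G.hom (MM G).hom)
    (bcEquiv_symm_left (uu G k).left (Red.bc (MM G).hom G) (jP G k))).symm
  exact (jP_left_fst G k).symm.trans (Category.assoc _ _ _).symm

/-- The universal subgroup. -/
theorem exists_univ : ∃ (K : Over (MM G).left) (_ : GrpObj K) (j : K ⟶ Red.bc (MM G).hom G) (V : Tri G.left (MM G).left),
    IsMonHom j ∧ Mono j ∧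
      (∀ k : Kp.{u}, ∃ e : Red.bc (pc G k).P.hom (Red.DS S (NN k.down)) ≅ Red.bc (uu G k).left K,
        IsMonHom e.hom) ∧
      (∃ e : K.left ≅ V.K, e.hom ≫ V.k = K.hom ∧ e.hom ≫ V.c = j.left ≫ pullback.fst G.hom (MM G).hom) ∧
      ∀ k : Kp.{u}, Tri.Same (VP G k) (V.pull (uu G k).left) := by
  haveI := (fpqc_uu (G := G)).1
  haveI := fun k => isMonHom_jP G k
  haveI := fun k => mono_jP G k
  haveI : ∀ k : Kp.{u}, IsAffineHom (Red.bc (pc G k).P.hom (Red.DS S (NN k.down))).hom := fun k => by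
    exact MorphismProperty.pullback_snd (P := @IsAffineHom) _ _ (isAffineHom_DS S (NN k.down))
  obtain ⟨K, hK, j, hj, hjm, -, -, he⟩ := Groth.Agent.RedRank.exists_descended (Red.bc (MM G).hom G)
    (fun k : Kp.{u} => (uu G k).left) (T'' := fun k => Red.bc (pc G k).P.hom (Red.DS S (NN k.down))) (jP G) (locIn_jP G)
  haveI := hjm
  haveI : Mono j.left := by
    show Mono ((Over.forget _).map j)
    infer_instance
  let V : Tri G.left (MM G).left :=
    { K := K.left
      k := K.hom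
      c := j.left ≫ pullback.fst G.hom (MM G).hom
      mono := fun a b h h' => (cancel_mono j.left).1 (pullback.hom_ext
        ((Category.assoc _ _ _).trans (h'.trans (Category.assoc _ _ _).symm))
        ((Category.assoc _ _ _).trans ((congrArg (a ≫ ·) (Over.w j)).trans
          (h.trans ((congrArg (b ≫ ·) (Over.w j)).symm.trans (Category.assoc _ _ _).symm))))) }
  refine ⟨K, hK, j, V, hj, hjm, fun k => ?_, ⟨Iso.refl _, Category.id_comp _, Category.id_comp _⟩, fun k => ?_⟩
  · obtain ⟨e, h1, -⟩ := he k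
    exact ⟨e, h1⟩
  · obtain ⟨e, -, h2⟩ := he k
    refine ⟨(Over.forget _).mapIso e, Over.w e.hom, ?_⟩
    show e.hom.left ≫ pullback.fst K.hom (uu G k).left ≫ j.left ≫ pullback.fst G.hom (MM G).hom = (pc G k).φ.left
    refine Eq.trans ?_ (jP_left_fst G k)
    rw [← h2, Over.comp_left, Category.assoc, ActBC.pullback_map_left_fst_assoc]


variable {G}

theorem isMultTypeFT_univ {K : Over (MM G).left} [GrpObj K]
    (he : ∀ k : Kp.{u}, ∃ e : Red.bc (pc G k).P.hom (Red.DS S (NN k.down)) ≅ Red.bc (uu G k).left K, IsMonHom e.hom) :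
    SGA3x.IsMultTypeFT K := by
  haveI := (fpqc_uu (G := G)).1
  haveI := (fpqc_uu (G := G)).2
  let Q : Kp.{u} → Scheme.{u} := fun k => (pc G k).P.left
  let f : (∐ Q) ⟶ (MM G).left := Limits.Sigma.desc fun k : Kp.{u} => (uu G k).left
  refine ⟨∐ Q, f, inferInstance, inferInstance, MultSubLib.exists_compact_image f f.isOpenMap f.surjective, fun x => ?_⟩
  obtain ⟨k, z, rfl⟩ := DescLib.exists_sigma_mem x
  let U := (Limits.Sigma.ι Q k).opensRange
  refine ⟨U, ⟨z, rfl⟩, NN k.down, inferInstance, inferInstance, ?_⟩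
  let r : (U : Scheme.{u}) ⟶ Q k := (Limits.Sigma.ι Q k).isoOpensRange.inv
  have hr : r ≫ (uu G k).left = U.ι ≫ f := by
    rw [← Scheme.Hom.isoOpensRange_inv_comp (Limits.Sigma.ι Q k), Category.assoc]
    exact congrArg (r ≫ ·) (Limits.Sigma.ι_desc (fun k : Kp.{u} => (uu G k).left) k).symm
  obtain ⟨e, hem⟩ := he k
  haveI := hem
  let c₁ : Red.bc r (Red.bc (uu G k).left K) ≅ Red.bc (U.ι ≫ f) K := ActBC.bcCompIso r (uu G k).left K hr
  let c₂ : Red.bc r (Red.bc (pc G k).P.hom (Red.DS S (NN k.down))) ≅ Red.bc (r ≫ (pc G k).P.hom) (Red.DS S (NN k.down)) :=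
    ActBC.bcCompIso r (pc G k).P.hom (Red.DS S (NN k.down)) rfl
  haveI : IsMonHom c₁.hom := ActBC.bcCompIso_isMonHom _ _ _
  haveI : IsMonHom c₂.hom := ActBC.bcCompIso_isMonHom _ _ _
  obtain ⟨c₃, h₃⟩ := RedCharZeroLib.exists_DS_bc (r ≫ (pc G k).P.hom) (NN k.down)
  haveI := h₃
  haveI : IsMonHom (M := Red.bc r (Red.bc (pc G k).P.hom (Red.DS S (NN k.down))))
      (N := Red.bc r (Red.bc (uu G k).left K)) ((Over.pullback r).map e.hom) :=
    @Functor.map.instIsMonHom _ _ _ _ _ _ (Over.pullback r) _ _ _ _ _ e.hom _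
  let w : Red.DS (U : Scheme.{u}) (NN k.down) ≅ Red.bc (U.ι ≫ f) K :=
    c₃ ≪≫ c₂.symm ≪≫ (Over.pullback r).mapIso e ≪≫ c₁
  haveI : IsMonHom w.hom := by
    show IsMonHom (c₃.hom ≫ c₂.inv ≫ (Over.pullback r).map e.hom ≫ c₁.hom)
    infer_instance
  haveI : IsMonHom w.symm.hom := inferInstanceAs (IsMonHom w.inv)
  exact ⟨Grp.mkIso' w.symm⟩


variable (G)

/-- A diagonalisable finite subgroup is given by a point of a piece. -/
theorem exists_point {T : Scheme.{u}} (f : T ⟶ S) {K' : Over T} [GrpObj K']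
    (j' : K' ⟶ Red.bc f G) [IsMonHom j'] [Mono j'] (V' : Tri G.left T)
    (hV' : ∃ e : K'.left ≅ V'.K, e.hom ≫ V'.k = K'.hom ∧ e.hom ≫ V'.c = j'.left ≫ pullback.fst G.hom f)
    {U : Scheme.{u}} (g : U ⟶ T) {M : Type} [AddCommGroup M] [AddGroup.FG M]
    (e : Grp.mk (Red.bc g K') ≅ Grp.mk (Red.DS U M)) (s : U) :
    ∃ (k : Kp.{u}) (x : Over.mk (g ≫ f) ⟶ (pc G k).P), Tri.Same (fT (pc G k) x) (V'.pull g) := by
  obtain ⟨k, ⟨σ⟩⟩ := exists_idx M
  let X : Over S := Over.mk (g ≫ f)
  let N := NN k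
  let e₁ : Red.bc g K' ≅ Red.DS U M := (Grp.forget _).mapIso e
  haveI : IsMonHom e₁.inv := e.inv.hom.isMonHom_hom
  obtain ⟨e₀, he₀⟩ := RedCharZeroLib.exists_DS_bc (g ≫ f) N
  haveI := he₀
  let σ' : Red.DS U N ≅ Red.DS U M :=
    { hom := MultSubLib.dd U (AddEquiv.toMultiplicative σ.symm).toMonoidHom
      inv := MultSubLib.dd U (AddEquiv.toMultiplicative σ).toMonoidHom
      hom_inv_id := by
        rw [dd_comp_dd, ← dd_id]; congr 1; exact MonoidHom.ext fun m => σ.symm_apply_apply m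
      inv_hom_id := by
        rw [dd_comp_dd, ← dd_id]; congr 1; exact MonoidHom.ext fun m => σ.apply_symm_apply m }
  let θ : Red.bc (g ≫ f) (Red.DS S N) ≅ Red.bc g K' := e₀.symm ≪≫ σ' ≪≫ e₁.symm
  let c := ActBC.bcCompIso g f G (rfl : g ≫ f = g ≫ f)
  haveI : IsMonHom c.hom := ActBC.bcCompIso_isMonHom _ _ _
  haveI : IsMonHom (M := Red.bc g K') (N := Red.bc g (Red.bc f G)) ((Over.pullback g).map j') :=
    Groth.Agent.DiagRep.isMonHom_bc_map g j'
  haveI : Mono ((Over.pullback g).map j') := by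
    haveI : (Over.pullback g).IsRightAdjoint := (Over.mapPullbackAdj g).isRightAdjoint
    infer_instance
  haveI hθ : IsMonHom θ.hom := by
    show IsMonHom (e₀.inv ≫ MultSubLib.dd U (AddEquiv.toMultiplicative σ.symm).toMonoidHom ≫ e₁.inv)
    infer_instance
  let ψ : Red.bc X.hom (Red.DS S N) ⟶ Red.bc X.hom G := θ.hom ≫ (Over.pullback g).map j' ≫ c.hom
  haveI : IsMonHom ψ := inferInstanceAs (IsMonHom (θ.hom ≫ (Over.pullback g).map j' ≫ c.hom))
  haveI : Mono ψ := inferInstanceAs (Mono (θ.hom ≫ (Over.pullback g).map j' ≫ c.hom))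
  obtain ⟨φ, hφ⟩ := exists_homOf_eq (T := X) ψ
  haveI : IsMonHom (homOf φ) := hφ ▸ inferInstanceAs (IsMonHom ψ)
  haveI : Mono (homOf φ) := hφ ▸ inferInstanceAs (Mono ψ)
  have hhom := isHomFamily_of_isMonHom φ
  have hmono : FamMono φ := fun Y t h e' => by
    have hi := (Groth.Agent.RedRank.ktriv_homOf_iff φ (𝟙 X.left)).1
      ((Groth.Agent.RedRank.mono_iff_ktriv_id _).1 inferInstance)
    have w : (t.left ≫ 𝟙 X.left) ≫ X.hom = Y.hom := by rw [Category.comp_id, Over.w t]
    exact hi Y t.left w h (by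
      rw [show (Over.homMk (t.left ≫ 𝟙 X.left) w : Y ⟶ X) = t from Over.OverMorphism.ext (Category.comp_id _)]
      exact e')
  obtain ⟨x, hx, -⟩ := (pc G ⟨k⟩).univ X φ hhom hmono
  refine ⟨⟨k⟩, x, (famTri_congr hx _ _ hhom hmono).trans ?_⟩
  obtain ⟨e', he1, he2⟩ := hV'
  have hφl : φ.left = θ.hom.left ≫ pullback.fst K'.hom g ≫ j'.left ≫ pullback.fst G.hom f := by
    rw [← homOf_left_fst φ, hφ]
    show (θ.hom.left ≫ ((Over.pullback g).map j').left ≫ c.hom.left) ≫ pullback.fst G.hom (g ≫ f) = _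
    rw [Category.assoc, Category.assoc, ActBC.bcCompIso_hom_left_fst, ActBC.pullback_map_left_fst_assoc]
  let A : Tri G.left U :=
    { K := (Red.bc g K').left
      k := pullback.snd K'.hom g
      c := pullback.fst K'.hom g ≫ e'.hom ≫ V'.c
      mono := fun a b h h' => pullback.hom_ext (by
        rw [← cancel_mono e'.hom]
        refine V'.mono _ _ ?_ ?_
        · rw [Category.assoc, Category.assoc, Category.assoc, Category.assoc, he1, pullback.condition,
            ← Category.assoc, h, Category.assoc]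
        · simpa only [Category.assoc] using h') h }
  refine Tri.Same.trans (B := A) ⟨(Over.forget U).mapIso θ, Over.w θ.hom, ?_⟩ ?_
  · show θ.hom.left ≫ pullback.fst K'.hom g ≫ e'.hom ≫ V'.c = φ.left
    rw [he2, hφl]
  · refine Tri.same_of_isPullback g V' A (pullback.fst K'.hom g ≫ e'.hom) ?_ (Category.assoc _ _ _)
    exact (IsPullback.of_hasPullback K'.hom g).of_iso (Iso.refl _) e' (Iso.refl _) (Iso.refl _) (by simp) (by simp [A])
      (by simp [he1]) (by simp)

variable {G}

/-- Two points of the sum with the same pulled back subgroup are equal. -/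
theorem eq_of_same {V : Tri G.left (MM G).left} (hV : ∀ k : Kp.{u}, Tri.Same (VP G k) (V.pull (uu G k).left))
    {X : Over S} (v v' : X ⟶ MM G) (h : Tri.Same (V.pull v.left) (V.pull v'.left)) : v = v' := by
  let R₁ : Kp.{u} → Over S := fun k => Over.mk (pullback.fst v.left (uu G k).left ≫ X.hom)
  let r₁ : ∀ k, R₁ k ⟶ X := fun k => Over.homMk (pullback.fst v.left (uu G k).left) rfl
  let x : ∀ k, R₁ k ⟶ (pc G k).P := fun k => Over.homMk (pullback.snd v.left (uu G k).left) (by
    show pullback.snd _ _ ≫ (pc G k).P.hom = pullback.fst _ _ ≫ X.hom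
    rw [← uu_comp, ← pullback.condition_assoc, Over.w v])
  have hx : ∀ k, x k ≫ uu G k = r₁ k ≫ v := fun k => Over.OverMorphism.ext pullback.condition.symm
  let R : Kp.{u} × Kp.{u} → Over S := fun p => Over.mk (pullback.fst (r₁ p.1 ≫ v').left (uu G p.2).left ≫ (R₁ p.1).hom)
  let r : ∀ p, R p ⟶ R₁ p.1 := fun p => Over.homMk (pullback.fst (r₁ p.1 ≫ v').left (uu G p.2).left) rfl
  let y : ∀ p, R p ⟶ (pc G p.2).P := fun p => Over.homMk (pullback.snd (r₁ p.1 ≫ v').left (uu G p.2).left) (by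
    show pullback.snd _ _ ≫ (pc G p.2).P.hom = pullback.fst _ _ ≫ (R₁ p.1).hom
    rw [← uu_comp, ← pullback.condition_assoc, Over.w (r₁ p.1 ≫ v')])
  have hy : ∀ p, y p ≫ uu G p.2 = r p ≫ r₁ p.1 ≫ v' := fun p => Over.OverMorphism.ext pullback.condition.symm
  refine hom_ext_flat_cover (fun p => r p ≫ r₁ p.1) (fun p => ?_) (fun z => ?_) fun p => ?_
  · haveI := etale_uu' G p.1
    haveI := etale_uu' G p.2
    exact inferInstanceAs (Flat (pullback.fst (r₁ p.1 ≫ v').left (uu G p.2).left ≫ pullback.fst v.left (uu G p.1).left))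
  · obtain ⟨k, q, hq⟩ := exists_piece_point (G := G) (v.left z)
    obtain ⟨w, hw, -⟩ := Scheme.Pullback.exists_preimage_pullback (f := v.left) (g := (uu G k).left) z q hq.symm
    obtain ⟨l, q', hq'⟩ := exists_piece_point (G := G) ((r₁ k ≫ v').left w)
    obtain ⟨w', hw', -⟩ := Scheme.Pullback.exists_preimage_pullback (f := (r₁ k ≫ v').left) (g := (uu G l).left) w q'
      hq'.symm
    refine ⟨(k, l), w', ?_⟩
    show pullback.fst v.left (uu G k).left (pullback.fst (r₁ k ≫ v').left (uu G l).left w') = z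
    rw [hw', hw]
  · rw [Category.assoc, Category.assoc, ← hx, ← Category.assoc, ← hy]
    refine uu_eq (r p ≫ x p.1) (y p) ?_
    have key : ∀ {k : Kp.{u}} {Y : Over S} (a : Y ⟶ (pc G k).P) (b : Y ⟶ MM G), a ≫ uu G k = b →
        Tri.Same (fT (pc G k) a) (V.pull b.left) := fun a b hab =>
      (fT_pull _ a).trans (((hV _).pull a.left).trans
        ((Tri.pull_pull _ _ V).trans (Tri.Same.pull_congr (congrArg CommaMorphism.left hab) V)))
    refine (key _ (r p ≫ r₁ p.1 ≫ v) (by rw [Category.assoc, hx])).trans (Tri.Same.trans ?_ (key _ _ (hy p)).symm)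
    have h' := h.pull (r p ≫ r₁ p.1).left
    refine ((Tri.Same.pull_congr ?_ V).trans (Tri.pull_pull _ _ V).symm).trans
      (h'.trans ((Tri.pull_pull _ _ V).trans (Tri.Same.pull_congr ?_ V)))
    · exact (Category.assoc _ _ _).symm
    · exact Category.assoc _ _ _

/-- A finite subgroup of multiplicative type is the pull back of the universal one. -/
theorem exists_classifying {V : Tri G.left (MM G).left} (hV : ∀ k : Kp.{u}, Tri.Same (VP G k) (V.pull (uu G k).left))
    {T : Scheme.{u}} (f : T ⟶ S) {K' : Over T} [GrpObj K'] (j' : K' ⟶ Red.bc f G) [IsMonHom j']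
    [Mono j'] (hK' : SGA3x.IsMultTypeFT K') (V' : Tri G.left T)
    (hV' : ∃ e : K'.left ≅ V'.K, e.hom ≫ V'.k = K'.hom ∧ e.hom ≫ V'.c = j'.left ≫ pullback.fst G.hom f) :
    ∃ v : Over.mk f ⟶ MM G, Tri.Same V' (V.pull v.left) := by
  obtain ⟨S', f', hflat, hsurj, hcov, hloc⟩ := hK'
  haveI := hflat
  haveI := hsurj
  choose U hU M inst hM e using hloc
  let X : Over S := Over.mk f
  let g : ∀ s, (U s : Scheme.{u}) ⟶ T := fun s => (U s).ι ≫ f'
  haveI : DescLib.Fpqc (Limits.Sigma.desc g) := RepDescLib.fpqc_pieces f' hcov U fun s => ⟨s, hU s⟩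
  choose k x hx using fun s => exists_point G f j' V' hV' (g s) (e s).some ⟨s, hU s⟩
  let r : ∀ s, Over.mk (g s ≫ f) ⟶ X := fun s => Over.homMk (g s) rfl
  haveI : DescLib.Fpqc (Limits.Sigma.desc fun s => (r s).left) := ‹DescLib.Fpqc (Limits.Sigma.desc g)›
  obtain ⟨v, hv⟩ := hom_descend_family r (fun s => x s ≫ uu G (k s)) fun s s' W a b hab => by
    rw [← Category.assoc, ← Category.assoc]
    refine uu_eq (a ≫ x s) (b ≫ x s') ?_
    refine (fT_comp (pc G (k s)) (x s) a).trans (((hx s).pull a.left).trans ?_)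
    refine Tri.Same.trans ?_ ((fT_comp (pc G (k s')) (x s') b).trans ((hx s').pull b.left)).symm
    exact (Tri.pull_pull _ _ V').trans ((Tri.Same.pull_congr (congrArg CommaMorphism.left hab) V').trans
      (Tri.pull_pull _ _ V').symm)
  refine ⟨v, Tri.same_of_family g fun s => ?_⟩
  refine ((hx s).symm.trans ((fT_pull (pc G (k s)) (x s)).trans ((hV (k s)).pull (x s).left))).trans ?_
  refine (Tri.pull_pull _ _ V).trans (Tri.Same.trans ?_ (Tri.pull_pull v.left (g s) V).symm)
  exact Tri.Same.pull_congr (congrArg CommaMorphism.left (hv s)).symm V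


end MultSubFTLib
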