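import Groth.Agent.MultSubFTLib.Levels
import Groth.Agent.RichLib.UnramifiedLocus
import Mathlib.AlgebraicGeometry.Morphisms.FormallyUnramified

/-!
At every point some finite level is unramified.
-/

set_option autoImplicit false
set_option backward.isDefEq.respectTransparency false
set_option linter.style.haveILetI false
set_option synthInstance.maxHeartbeats 400000

noncomputable section

universe u

open CategoryTheory CategoryTheory.Limits MonoidalCategory CartesianMonoidalCategory AlgebraicGeometry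
open scoped MonObj

attribute [-instance] CategoryTheory.Hom.commGroup

namespace MultSubFTLib

open MultSubLib (pc)

variable {S : Scheme.{u}} {G : Over S} [GrpObj G] [IsAffineHom G.hom] [Smooth G.hom]
  {N : Type} [AddCommGroup N] [AddGroup.FG N] (p : Piece G N)

theorem eq_of_gl {C : Type u} [CommRing C] (pC : Spec (CommRingCat.of C) ⟶ S) {a b : Over.mk pC ⟶ p.P}
    (h : ∀ l, a ≫ gl p l = b ≫ gl p l) : a = b :=
  p.hom_ext (ext_of_restrictions pC (fun l => MultSubLib.NN (lev.{u} N l).down) (lpi.{u} N) (exists_injOn_lpi.{u} N)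
    fun l => by rw [← gl_comp, ← gl_comp, h l])

theorem eq_of_gl_affine {Y : Over S} [IsAffine Y.left] {a b : Y ⟶ p.P}
    (h : ∀ l, a ≫ gl p l = b ≫ gl p l) : a = b := by
  let i : Over.mk (Y.left.isoSpec.inv ≫ Y.hom) ⟶ Y := Over.homMk Y.left.isoSpec.inv rfl
  have e := eq_of_gl p (Y.left.isoSpec.inv ≫ Y.hom) (a := i ≫ a) (b := i ≫ b) fun l => by
    rw [Category.assoc, Category.assoc, h l]
  haveI : Epi i.left := inferInstanceAs (Epi Y.left.isoSpec.inv)
  exact Over.OverMorphism.ext ((cancel_epi i.left).1 (congrArg CommaMorphism.left e))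

theorem exists_mem_locus (x : p.P.left) : ∃ l, x ∈ RichLib.UnrLocus.locus (gl p l).left := by
  haveI := p.smooth
  haveI := p.separated
  obtain ⟨W, hW, hxW, -⟩ :=
    exists_isAffineOpen_mem_and_subset (X := S) (x := p.P.hom x) (U := ⊤) (Set.mem_univ _)
  obtain ⟨V, hV, hxV, hVW⟩ := exists_isAffineOpen_mem_and_subset (U := p.P.hom ⁻¹ᵁ W) hxW
  let τ : Spec (p.P.left.residueField x) ⟶ p.P.left := p.P.left.fromSpecResidueField x
  have hτr : Set.range τ ⊆ Set.range V.ι := by
    rw [Scheme.Opens.range_ι, Scheme.range_fromSpecResidueField]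
    exact Set.singleton_subset_iff.2 hxV
  let τV := IsOpenImmersion.lift V.ι τ hτr
  have hτV : τV ≫ V.ι = τ := IsOpenImmersion.lift_fac _ _ _
  let sV : (V : Scheme.{u}) ⟶ S := V.ι ≫ p.P.hom
  let σ := τ ≫ p.P.hom
  haveI hX : IsAffine (pullback sV σ) := by
    haveI : IsAffine (W : Scheme.{u}) := hW
    haveI : IsAffine (V : Scheme.{u}) := hV
    have hr : Set.range sV ⊆ Set.range W.ι := by
      rw [Scheme.Opens.range_ι]
      rintro _ ⟨v, rfl⟩
      exact hVW v.2
    let a := IsOpenImmersion.lift W.ι sV hr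
    let b := τV ≫ a
    have ha : a ≫ W.ι = sV := IsOpenImmersion.lift_fac _ _ _
    have hb : b ≫ W.ι = σ := by
      show (τV ≫ a) ≫ W.ι = τ ≫ p.P.hom
      rw [Category.assoc, ha, ← hτV, Category.assoc]
    have sq : IsPullback (pullback.fst a b) (pullback.snd a b) (a ≫ W.ι) (b ≫ W.ι) :=
      IsPullback.of_isLimit (pullbackIsPullbackOfCompMono a b W.ι)
    rw [ha, hb] at sq
    exact IsAffine.of_isIso sq.isoPullback.inv
  let hP : ∀ l, (pc G (lev N l)).P.left ⟶ S := fun l => (pc G (lev N l)).P.hom
  let f : ∀ l, (V : Scheme.{u}) ⟶ (pc G (lev N l)).P.left := fun l => V.ι ≫ (gl p l).left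
  let g : ∀ l, Spec (p.P.left.residueField x) ⟶ (pc G (lev N l)).P.left := fun l => τ ≫ (gl p l).left
  have hf : ∀ l, f l ≫ hP l = sV := fun l => by
    show (V.ι ≫ (gl p l).left) ≫ _ = _
    rw [Category.assoc, Over.w]
  have hg : ∀ l, g l ≫ hP l = σ := fun l => by
    show (τ ≫ (gl p l).left) ≫ _ = _
    rw [Category.assoc, Over.w]
  let i : ∀ l, pullback (f l) (g l) ⟶ pullback sV σ := fun l =>
    pullback.lift (pullback.fst _ _) (pullback.snd _ _) (by
      rw [← hf l, ← hg l, pullback.condition_assoc])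
  haveI hi : ∀ l, IsClosedImmersion (i l) := fun l => by
    haveI : IsSeparated (hP l) := separated_piece _
    have e : i l = pullback.mapDesc (f l) (g l) (hP l) ≫ (pullback.congrHom (hf l) (hg l)).hom := by
      refine pullback.hom_ext ?_ ?_ <;> simp [i]
    rw [e]
    infer_instance
  let I : ℕ → Ideal Γ(pullback sV σ, ⊤) := fun l => (i l).ker.ideal ⟨⊤, isAffineOpen_top _⟩
  have hanti : ∀ l m, l ≤ m → (i l).ker ≤ (i m).ker := fun l m h => by
    obtain ⟨r, hr⟩ := exists_gl_factor p h
    have hr' : (gl p m).left ≫ r.left = (gl p l).left := congrArg CommaMorphism.left hr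
    have w : pullback.fst (f m) (g m) ≫ f l = pullback.snd (f m) (g m) ≫ g l := by
      simp only [f, g, ← hr', ← Category.assoc]
      exact congrArg (· ≫ r.left) (by simpa only [f, g, Category.assoc] using pullback.condition (f := f m) (g := g m))
    have e : i m = pullback.lift _ _ w ≫ i l := by
      refine pullback.hom_ext ?_ ?_ <;> simp [i]
    rw [e]
    exact Scheme.Hom.le_ker_comp _ _
  haveI : LocallyOfFiniteType sV := inferInstanceAs (LocallyOfFiniteType (V.ι ≫ p.P.hom))
  haveI : IsLocallyNoetherian (pullback sV σ) :=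
    LocallyOfFiniteType.isLocallyNoetherian (pullback.snd sV σ)
  haveI : IsNoetherianRing Γ(pullback sV σ, ⊤) :=
    IsLocallyNoetherian.component_noetherian ⟨⊤, isAffineOpen_top _⟩
  obtain ⟨L, hL⟩ := monotone_stabilizes_iff_noetherian.mpr
    (inferInstance : IsNoetherian Γ(pullback sV σ, ⊤) Γ(pullback sV σ, ⊤)) ⟨I, fun l m h => hanti l m h _⟩
  have hker : ∀ l, (i l).ker ≤ (i L).ker := fun l => by
    rcases le_total l L with h | h
    · exact hanti l L h
    · exact Scheme.IdealSheafData.le_of_isAffine (le_of_eq (hL l h).symm)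
  haveI : IsAffine (pullback (f L) (g L)) := (IsClosedImmersion.isAffine_surjective_of_isAffine (i L)).1
  let fL := f L
  let gL := g L
  let Y : Over S := Over.mk (pullback.snd fL gL ≫ σ)
  haveI : IsAffine Y.left := inferInstanceAs (IsAffine (pullback (f L) (g L)))
  let a : Y ⟶ p.P := Over.homMk (pullback.fst fL gL ≫ V.ι) (by
    show (pullback.fst fL gL ≫ V.ι) ≫ p.P.hom = pullback.snd fL gL ≫ σ
    rw [← hg L, ← pullback.condition_assoc, Category.assoc, hf L])
  let b : Y ⟶ p.P := Over.homMk (pullback.snd fL gL ≫ τ) (Category.assoc _ _ _)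
  have hab : a = b := eq_of_gl_affine p fun l => by
    refine Over.OverMorphism.ext ?_
    have e := IsClosedImmersion.lift_fac (i l) (i L) (hker l)
    have e1 := congrArg (· ≫ pullback.fst sV σ) e
    have e2 := congrArg (· ≫ pullback.snd sV σ) e
    simp only [i, Category.assoc, pullback.lift_fst, pullback.lift_snd] at e1 e2
    show (pullback.fst (f L) (g L) ≫ V.ι) ≫ (gl p l).left = (pullback.snd (f L) (g L) ≫ τ) ≫ (gl p l).left
    rw [Category.assoc, Category.assoc]
    refine (congrArg (· ≫ f l) e1).symm.trans (Eq.trans ?_ (congrArg (· ≫ g l) e2))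
    show (_ ≫ pullback.fst (f l) (g l)) ≫ f l = (_ ≫ pullback.snd (f l) (g l)) ≫ g l
    exact (Category.assoc _ _ _).trans ((congrArg (_ ≫ ·) pullback.condition).trans (Category.assoc _ _ _).symm)
  haveI : Mono (pullback.snd fL gL) := ⟨fun c d h => by
    refine pullback.hom_ext ?_ h
    rw [← cancel_mono V.ι, Category.assoc, Category.assoc]
    have h1 : pullback.fst fL gL ≫ V.ι = pullback.snd fL gL ≫ τ := congrArg CommaMorphism.left hab
    rw [h1, ← Category.assoc, h, Category.assoc]⟩
  haveI : FormallyUnramified (pullback.snd fL gL) := inferInstance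
  haveI := lft_gl p L
  haveI : LocallyOfFiniteType fL := inferInstanceAs (LocallyOfFiniteType (V.ι ≫ (gl p L).left))
  let w : Spec (p.P.left.residueField x) ⟶ pullback fL gL := pullback.lift τV (𝟙 _) (by
    show τV ≫ V.ι ≫ (gl p L).left = 𝟙 _ ≫ τ ≫ (gl p L).left
    rw [← Category.assoc, hτV, Category.id_comp])
  let z := w (IsLocalRing.closedPoint (p.P.left.residueField x))
  have h1 := RichLib.UnrLocus.mem_locus_of_isPullback (IsPullback.of_hasPullback fL gL) z
  have h2 := (RichLib.UnrLocus.mem_locus_comp_left_iff V.ι (gl p L).left _).1 h1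
  refine ⟨L, ?_⟩
  convert h2 using 1
  show x = (w ≫ pullback.fst fL gL ≫ V.ι) (IsLocalRing.closedPoint _)
  rw [pullback.lift_fst_assoc, hτV]
  exact (Scheme.fromSpecResidueField_apply _ _).symm

end MultSubFTLib
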